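import Cfsg.Agent.H826.RgF.Defs_m3
import Cfsg.Agent.H997.Rg.Core_m3
import Cfsg.Agent.H781.Cov9.Perm_m3
import Cfsg.Agent.H951.Block
import Cfsg.Agent.H951.Iso
import Cfsg.Agent.H386.Rg.AlphaA_m3
import Cfsg.Agent.H193.Dg.Orth
import Cfsg.Agent.H454.Reg.Tools
import Cfsg.Agent.Prune
set_option linter.all false

section
prune_inst 0x7ffdebfdbbbaf1dfdfff7e7ff6fccdfdffba3fffa6dff9cbffe06bff2bdf6b1849e5abad8ffb11fe0ef66a1414ec7bd3f9ffefffe26bdc7ffffd5ff45ffbffdffdf7bd0911d588340f3e0ffe63f0778e7f3fffffffffffffffffffffffffffbeffbfffffffff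

-- part: H128/Rg/SpAbs
section
prune_inst 0x2000240450e2000000180000302000041000040200400000a840004001084840a04100000620111010068c013800006001000010422800000a0000000002000000000602a048a108000010800080000000000000000000000000000000000000000000000
set_option linter.all false
open scoped Cfsg.Agent.FastGrp

/-!
# S3691 (T1): the list lemma for symplectic spaces of characteristic two

* `symp_prop` : two symplectic forms, the isometries of the second preserve the first: proportional
* `unit_symp_false` : the determinant-one isometries of a unitary form do not preserve a symplectic form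
* `sp_iso`, `sp_abs` : the list lemma (matrices, coordinate free)
-/

set_option autoImplicit false
set_option linter.unusedSectionVars false

namespace Cfsg.Agent.H128.Rg

open Module QuadraticMap Cfsg Cfsg.Geo Matrix Cfsg.Agent.LieClassical.OrthCore Cfsg.Agent.LieClassical.OrthTrans
  Cfsg.Agent.H955 Cfsg.Agent.H954.TSing Cfsg.Agent.H884.El Cfsg.Agent.H278.Cov Cfsg.Agent.H449.Reg
  Cfsg.Agent.H929 Cfsg.Agent.H873 Cfsg.Agent.H89.Cov
open Cfsg.Agent.H951 (fx cm Inv)
open Cfsg.Agent.LieClassical.OrthFinite (glEquiv glEquiv_apply)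
open scoped MatrixGroups

universe u v

section Mat

variable {ι : Type} [Fintype ι] [DecidableEq ι] {F : Type u} [Field F]

/-- **the isometries of a symplectic form preserve only its multiples** -/
theorem symp_prop [Nonempty ι] {f b : (ι → F) → (ι → F) → F} (hf : IsSymplecticForm f) (hb : IsSymplecticForm b)
    (h : ∀ x : GL ι F, FixesForm {(x : Matrix ι ι F)} f → FixesForm {(x : Matrix ι ι F)} b) :
    ∃ c : F, c ≠ 0 ∧ ∀ x y, b x y = c * f x y := by
  have hfb := hf.bilinear
  have hbb := hb.bilinear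
  -- the transvections
  have key : ∀ w x y : ι → F, f x w * b w y = f y w * b w x := by
    intro w x y
    have hdot : ∀ u, cv f w ⬝ᵥ u = f u w := cv_dot hfb.add_left hfb.smul_left w
    have h0 : cv f w ⬝ᵥ w = 0 := by rw [hdot, hf.alternating]
    have h1 : FixesForm {(tv w (cv f w) h0 : Matrix ι ι F)} f := by
      rw [fixesForm_singleton]
      intro u v
      rw [tv_mulVec, tv_mulVec, hdot, hdot, hfb.add_left, hfb.add_right, hfb.add_right, hfb.smul_left, hfb.smul_left,
        hfb.smul_right, hfb.smul_right, hf.alternating, hf.skew w v]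
      ring
    have h2 := h _ h1
    rw [fixesForm_singleton] at h2
    have h3 := h2 x y
    rw [tv_mulVec, tv_mulVec, hdot, hdot, hbb.add_left, hbb.add_right, hbb.add_right, hbb.smul_left, hbb.smul_left,
      hbb.smul_right, hbb.smul_right, hb.alternating, hb.skew x w] at h3
    linear_combination h3
  -- the scalar of a vector
  have hc : ∀ w : ι → F, w ≠ 0 → ∃ c : F, ∀ x, b w x = c * f w x := by
    intro w hw
    obtain ⟨y, hy⟩ := (hf.nondegenerate w hw).1
    refine ⟨-(b w y / f y w), fun x => ?_⟩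
    have h1 := key w x y
    rw [hf.skew w x]
    field_simp
    linear_combination -h1
  obtain ⟨i⟩ := ‹Nonempty ι›
  set w₀ : ι → F := Pi.single i 1 with hw₀
  have hw₀0 : w₀ ≠ 0 := by
    intro h0
    have := congrFun h0 i
    simp [hw₀] at this
  obtain ⟨c, hc0⟩ := hc w₀ hw₀0
  -- vectors not orthogonal to `w₀`
  have hA : ∀ x : ι → F, f w₀ x ≠ 0 → ∀ y, b x y = c * f x y := by
    intro x hx
    have hx0 : x ≠ 0 := by
      rintro rfl
      apply hx
      have := hfb.smul_right 0 w₀ 0
      rwa [zero_smul, zero_mul] at this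
    obtain ⟨d, hd⟩ := hc x hx0
    have h1 := hc0 x
    have h2 := hd w₀
    rw [hb.skew, hf.skew x w₀] at h2
    have h3 : (c - d) * f w₀ x = 0 := by linear_combination -h1 - h2
    have h4 : c = d := sub_eq_zero.1 ((mul_eq_zero.1 h3).resolve_right hx)
    rw [h4]
    exact hd
  obtain ⟨z, hz⟩ := (hf.nondegenerate w₀ hw₀0).2
  have hall : ∀ x y, b x y = c * f x y := by
    intro x y
    by_cases hx : f w₀ x = 0
    · have h1 := hA z hz y
      have h2 := hA (x + z) (by rw [hfb.add_right, hx, zero_add]; exact hz) y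
      rw [hbb.add_left, hfb.add_left] at h2
      linear_combination h2 - h1
    · exact hA x hx y
  refine ⟨c, ?_, hall⟩
  rintro rfl
  obtain ⟨y, hy⟩ := (hb.nondegenerate w₀ hw₀0).2
  exact hy (by rw [hall, zero_mul])

/-- **the determinant-one isometries of a unitary form do not preserve a symplectic form** -/
theorem unit_symp_false [Finite F] (hn : 3 ≤ Fintype.card ι) {b : (ι → F) → (ι → F) → F} (hb : IsSymplecticForm b)
    {σ : F ≃+* F} {f : (ι → F) → (ι → F) → F} (hf : IsUnitaryForm σ f)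
    (h : ∀ x : GL ι F, FixesForm {(x : Matrix ι ι F)} f → Matrix.GeneralLinearGroup.det x = 1 →
      FixesForm {(x : Matrix ι ι F)} b) : False := by
  have hB := hb.bilinear
  have hF := Herm.of_unitary hf
  obtain ⟨e, he0, he⟩ := exists_trace_zero hf.involutive hf.ne_refl
  -- the transvections
  have key : ∀ w x y : ι → F, f w w = 0 → f x w * b w y = f y w * b w x := by
    intro w x y hw
    have hdot : ∀ u, cv f w ⬝ᵥ u = f u w := cv_dot hf.add_left hf.smul_left w
    have h0 : cv f w ⬝ᵥ (e • w) = 0 := by rw [hdot, hf.smul_left, hw, mul_zero]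
    have h1 : FixesForm {(tv (e • w) (cv f w) h0 : Matrix ι ι F)} f := by
      rw [fixesForm_singleton]
      intro x y
      rw [tv_mulVec, tv_mulVec, hdot, hdot, hF.add_left, hF.add_right, hF.add_right,
        hF.smul_left, hF.smul_left, hF.smul_left, hF.smul_left, hF.smul_right, hF.smul_right,
        hF.smul_right, hF.smul_right, hw, he, hF.herm w y]
      ring
    have hdet : Matrix.GeneralLinearGroup.det (tv (e • w) (cv f w) h0) = 1 := by
      have h2 := tv_mem_specialLinear _ _ h0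
      rw [mem_specialLinear_iff] at h2
      apply Units.ext
      exact h2
    have h3 := h _ h1 hdet
    rw [fixesForm_singleton] at h3
    have h4 := h3 x y
    rw [tv_mulVec, tv_mulVec, hdot, hdot, hB.add_left, hB.add_right, hB.add_right, hB.smul_left, hB.smul_left,
      hB.smul_right, hB.smul_right, hB.smul_left, hB.smul_left, hB.smul_right, hB.smul_right, hb.alternating,
      hb.skew x w] at h4
    have h5 : e * (f x w * b w y - f y w * b w x) = 0 := by linear_combination h4
    have h6 := (mul_eq_zero.1 h5).resolve_left he0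
    linear_combination h6
  have hc : ∀ w : ι → F, w ≠ 0 → f w w = 0 → ∃ c : F, ∀ x, b w x = c * f x w := by
    intro w hw0 hw
    obtain ⟨y, hy⟩ := (hf.nondegenerate w hw0).1
    refine ⟨b w y / f y w, fun x => ?_⟩
    have h1 := key w x y hw
    field_simp
    linear_combination -h1
  -- a hyperbolic pair
  obtain ⟨i⟩ : Nonempty ι := Fintype.card_pos_iff.1 (by omega)
  have hi0 : (Pi.single i 1 : ι → F) ≠ 0 := by
    intro h0
    have := congrFun h0 i
    simp at this
  have h2' : ∀ v ∈ (⊤ : Submodule F (ι → F)), ∃ x ∈ (⊤ : Submodule F (ι → F)), ∀ c : F, x ≠ c • v := by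
    intro v _
    obtain ⟨x, hx⟩ := exists_not_smul (by omega : 2 ≤ Fintype.card ι) v
    exact ⟨x, trivial, hx⟩
  have hnd' : ∀ x ∈ (⊤ : Submodule F (ι → F)), x ≠ 0 → ∃ y ∈ (⊤ : Submodule F (ι → F)), f x y ≠ 0 := by
    intro x _ hx
    obtain ⟨y, hy⟩ := (hf.nondegenerate x hx).2
    exact ⟨y, trivial, hy⟩
  obtain ⟨u, -, huu, hu⟩ := hF.exists_isotropic_not_orth hf.ne_refl ⊤ hnd' h2' (v := Pi.single i 1) trivial hi0
  have hu0 : u ≠ 0 := by
    rintro rfl
    rw [hF.zero_right] at hu
    exact hu rfl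
  obtain ⟨v, -, hvv, huv⟩ := hF.exists_hyperbolic hf.ne_refl ⊤ hnd' trivial hu0 huu
  have hvu : f v u = 1 := by rw [hf.herm, huv, map_one]
  have hv0 : v ≠ 0 := by
    rintro rfl
    rw [hF.zero_right] at huv
    exact zero_ne_one huv
  -- the perp of the pair
  let H : Submodule F (ι → F) :=
    { carrier := {x | f x u = 0 ∧ f x v = 0}
      add_mem' := fun {a b} ha hb => ⟨by rw [hf.add_left, ha.1, hb.1, add_zero], by rw [hf.add_left, ha.2, hb.2, add_zero]⟩
      zero_mem' := ⟨hF.zero_left u, hF.zero_left v⟩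
      smul_mem' := fun c a ha => ⟨by rw [hf.smul_left, ha.1, mul_zero], by rw [hf.smul_left, ha.2, mul_zero]⟩ }
  have hproj : ∀ y : ι → F, y - f y v • u - f y u • v ∈ H := by
    intro y
    refine ⟨?_, ?_⟩
    · rw [hF.sub_left, hF.sub_left, hF.smul_left, hF.smul_left, huu, hvu]; ring
    · rw [hF.sub_left, hF.sub_left, hF.smul_left, hF.smul_left, huv, hvv]; ring
  have hndH : ∀ x ∈ H, x ≠ 0 → ∃ y ∈ H, f x y ≠ 0 := by
    intro x hx hx0
    obtain ⟨y, hy⟩ := (hf.nondegenerate x hx0).2
    refine ⟨_, hproj y, ?_⟩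
    rw [hF.sub_right, hF.sub_right, hF.smul_right, hF.smul_right, hx.1, hx.2]
    simpa using hy
  obtain ⟨y, hy⟩ := H558.Cov.exists_not_mem_span2 hn u v
  set z := y - f y v • u - f y u • v with hz
  have hz0 : z ≠ 0 := by
    intro h0
    apply hy (f y v) (f y u)
    rw [hz] at h0
    rw [← sub_eq_zero, ← h0]
    abel
  obtain ⟨r, ⟨hru, hrv⟩, hrr⟩ := hF.exists_nonisotropic hf.ne_refl H hndH (hproj y) hz0
  have hur : f u r = 0 := by rw [hf.herm, hru, map_zero]
  have hvr : f v r = 0 := by rw [hf.herm, hrv, map_zero]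
  obtain ⟨t₁, ht₁⟩ := exists_trace_one hf.involutive hf.ne_refl
  set t := -(f r r) * t₁ with ht
  have htt : t + σ t = - f r r := by
    rw [ht, map_mul, map_neg, hF.self_fixed]
    linear_combination (-(f r r)) * ht₁
  have p1 : f (v + r + t • u) (v + r + t • u) = 0 := by
    simp only [hF.add_left, hF.add_right, hF.smul_left, hF.smul_right, huu, hvv, huv, hvu, hru, hrv, hur, hvr]
    linear_combination htt
  have p2 : f u (v + r + t • u) = 1 := by
    rw [hF.add_right, hF.add_right, hF.smul_right, huv, hur, huu]; ring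
  have p2' : f (v + r + t • u) u = 1 := by rw [hf.herm, p2, map_one]
  have p3 : v + r + t • u ≠ 0 := by
    intro h0
    rw [h0, hF.zero_right] at p2
    exact zero_ne_one p2
  have p4 : f (v + r + t • u) v = t := by
    rw [hF.add_left, hF.add_left, hF.smul_left, hvv, hrv, huv]; ring
  have p4' : f v (v + r + t • u) = σ t := by rw [hf.herm, p4]
  obtain ⟨cu, hcu⟩ := hc u hu0 huu
  obtain ⟨cv', hcv⟩ := hc v hv0 hvv
  obtain ⟨cw, hcw⟩ := hc _ p3 p1
  have e1 : cu = -cv' := by
    have h1 := hcu v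
    have h2 := hcv u
    rw [hvu] at h1
    rw [huv] at h2
    have h3 := hb.skew u v
    rw [h1, h2] at h3
    linear_combination h3
  have e2 : cu = -cw := by
    have h1 := hcu (v + r + t • u)
    have h2 := hcw u
    rw [p2'] at h1
    rw [p2] at h2
    have h3 := hb.skew u (v + r + t • u)
    rw [h1, h2] at h3
    linear_combination h3
  have e3 : cv' * t = - (cw * σ t) := by
    have h1 := hcv (v + r + t • u)
    have h2 := hcw v
    rw [p4] at h1
    rw [p4'] at h2
    have h3 := hb.skew v (v + r + t • u)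
    rw [h1, h2] at h3
    exact h3
  have e4 : cu * f r r = 0 := by
    have h1 : cv' = -cu := by rw [e1, neg_neg]
    have h2 : cw = -cu := by rw [e2, neg_neg]
    rw [h1, h2] at e3
    linear_combination cu * htt + e3
  have e5 : cu = 0 := (mul_eq_zero.1 e4).resolve_right hrr
  obtain ⟨y', hy'⟩ := (hb.nondegenerate u hu0).2
  exact hy' (by rw [hcu, e5, zero_mul])

/-- the polar form is symplectic in characteristic two -/
theorem symp_polar (h2 : (2 : F) = 0) {Q : (ι → F) → F} (hQ : IsNondegenerateQuadraticForm Q) :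
    IsSymplecticForm (polar Q) := by
  have hneg : ∀ a : F, -a = a := fun a => by linear_combination (-a) * h2
  refine ⟨hQ.polar_bilinear, fun v w => ?_, fun v => ?_, hQ.nondegenerate⟩
  · rw [polar_comm, hneg]
  · have h1 : Q (v + v) = 2 ^ 2 * Q v := by rw [← two_smul F v, hQ.smul]
    rw [polar, h1, h2]
    linear_combination (-Q v) * h2

/-- **the list lemma for groups preserving the polar form** -/
theorem sp_iso (hP : H659.CovCore.S5948Stmt.{u}) [Fintype F] (h2 : (2 : F) = 0) {k : ℕ} {Q : (ι → F) → F}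
    (hQ : IsNondegenerateQuadraticForm Q) {H : Subgroup (GL ι F)}
    (hmem : ∀ x ∈ H, ∀ u v, polar Q ((x : Matrix ι ι F) *ᵥ u) ((x : Matrix ι ι F) *ᵥ v) = polar Q u v)
    {g : GL ι F} (hg : g ∈ H)
    (hnum : Num (Fintype.card F) (Fintype.card ι) k (orderOf g)) :
    Red H ∨ Ext (Nat.gcd (Fintype.card ι) k) H ∨
      (∀ x : GL ι F, (∀ u v, polar Q ((x : Matrix ι ι F) *ᵥ u) ((x : Matrix ι ι F) *ᵥ v) = polar Q u v) → x ∈ H) ∨
      (∃ Q' : (ι → F) → F, IsNondegenerateQuadraticForm Q' ∧ (∀ u v, polar Q' u v = polar Q u v) ∧ omegaGL Q' ≤ H) := by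
  have hten := hnum.ten
  have hone : Nonempty ι := Fintype.card_pos_iff.1 (by omega)
  have hB := symp_polar h2 hQ
  by_cases hred : Red H
  · exact Or.inl hred
  right
  rcases H659.CovCore.core hP hg hnum hred with h | h | ⟨f', hf', h⟩ | ⟨τ, f', hf', h⟩ | ⟨Q', hQ', h⟩
  · exact Or.inl h
  · exfalso
    refine H905.not_sl_le_similarityGroup_symplectic (by omega) hB fun x hx => ?_
    exact ⟨1, fun u v => by rw [Units.val_one, one_mul]; exact hmem x (h hx) u v⟩
  · right; left
    obtain ⟨c, hc0, hc⟩ := symp_prop hf' hB fun x hx => fixesForm_singleton.2 (hmem x (h x hx))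
    intro x hx
    apply h
    rw [fixesForm_singleton]
    intro u v
    have h1 := hx u v
    rw [hc, hc] at h1
    exact mul_left_cancel₀ hc0 h1
  · exact (unit_symp_false (by omega) hB hf' fun x hx hd => fixesForm_singleton.2 (hmem x (h x hx hd))).elim
  · right; right
    have h1 : FixesForm (matrixSet (omegaGL Q')) (polar Q) := by
      rintro _ ⟨x, hx, rfl⟩ u v
      exact hmem x (h hx) u v
    have h3 : FixesForm (matrixSet (omegaGL Q')) (polar Q') := H914.fixesForm_polar (H925.Nat.omegaGL_fixes Q')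
    obtain ⟨c, hc⟩ := H920.form_unique (H925.Nat.omegaGL_absIrr hQ' (by omega)) hQ'.polar_bilinear hQ'.nondegenerate h3
      hQ.polar_bilinear h1
    have hc0 : c ≠ 0 := by
      rintro rfl
      obtain ⟨i⟩ := hone
      have hne : (Pi.single i 1 : ι → F) ≠ 0 := by
        intro h0
        have := congrFun h0 i
        simp at this
      obtain ⟨⟨x, hx⟩, -⟩ := hQ.nondegenerate _ hne
      exact hx (by rw [hc, zero_mul])
    have hp : ∀ u v, polar (fun v => c * Q' v) u v = c * polar Q' u v := by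
      intro u v
      simp only [polar]
      ring
    refine ⟨fun v => c * Q' v, ⟨fun a v => by rw [hQ'.smul]; ring, ⟨?_, ?_, ?_, ?_⟩, ?_⟩, fun u v => by rw [hp, hc], ?_⟩
    · intro x y v
      rw [hp, hp, hp, hQ'.polar_bilinear.add_left]; ring
    · intro a x v
      rw [hp, hp, hQ'.polar_bilinear.smul_left]; ring
    · intro v x y
      rw [hp, hp, hp, hQ'.polar_bilinear.add_right]; ring
    · intro a v x
      rw [hp, hp, hQ'.polar_bilinear.smul_right]; ring
    · intro v hv
      obtain ⟨⟨x, hx⟩, ⟨y, hy⟩⟩ := hQ'.nondegenerate v hv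
      exact ⟨⟨x, by rw [hp]; exact mul_ne_zero hc0 hx⟩, ⟨y, by rw [hp]; exact mul_ne_zero hc0 hy⟩⟩
    · rw [H925.Nat.omegaGL_smul hc0 fun v => rfl]
      exact h

end Mat

section abs

variable {F : Type u} [Field F] [Fintype F] {V : Type v} [AddCommGroup V] [Module F V] [FiniteDimensional F V]
  {Q : QuadraticForm F V} {H A : Subgroup (V ≃ₗ[F] V)}

/-- Siegel elements from matrices -/
theorem E_le_of {n : ℕ} (φ : V ≃ₗ[F] (Fin n → F)) (hn5 : 5 ≤ Fintype.card (Fin n))
    (hQ'' : IsNondegenerateQuadraticForm (⇑(tq Q φ))) (h : omegaGL (⇑(tq Q φ)) ≤ H.map (cj φ).toMonoidHom) :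
    E Q ≤ H := by
  rw [E, Subgroup.closure_le]
  rintro _ ⟨u, w, hu, hw, rfl⟩
  have hu' : (H884.OmegaGL.bundle (⇑(tq Q φ)) hQ'') (φ u) = 0 := by
    change Q (φ.symm (φ u)) = 0
    rw [φ.symm_apply_apply, hu]
  have hw' : polar (H884.OmegaGL.bundle (⇑(tq Q φ)) hQ'') (φ u) (φ w) = 0 := by
    change polar (tq Q φ) (φ u) (φ w) = 0
    rw [polar_tq, φ.symm_apply_apply, φ.symm_apply_apply, hw]
  have h1 : cj φ (siegel Q u w hu hw) ∈ omegaGL (⇑(tq Q φ)) := by
    rw [H884.OmegaGL.mem_omegaGL _ hQ'' hn5]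
    have h2 : glEquiv (Fin n) F (cj φ (siegel Q u w hu hw)) = siegel _ (φ u) (φ w) hu' hw' := by
      apply LinearEquiv.ext
      intro v
      rw [glEquiv_apply, siegel_apply, cj_apply, siegel_apply, map_sub, map_sub, map_add, map_smul, map_smul, map_smul,
        φ.apply_symm_apply]
      have e1 : ∀ a b : V, polar (H884.OmegaGL.bundle (⇑(tq Q φ)) hQ'') (φ a) (φ b) = polar Q a b := by
        intro a b
        change polar (tq Q φ) (φ a) (φ b) = _
        rw [polar_tq, φ.symm_apply_apply, φ.symm_apply_apply]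
      have e2 : (H884.OmegaGL.bundle (⇑(tq Q φ)) hQ'') (φ w) = Q w := by
        change Q (φ.symm (φ w)) = _
        rw [φ.symm_apply_apply]
      have e3 : v = φ (φ.symm v) := (φ.apply_symm_apply v).symm
      rw [e2]
      conv_rhs => rw [e3, e1, e1]
      rw [φ.apply_symm_apply]
    rw [h2]
    exact siegel_mem_E hu' hw'
  obtain ⟨x, hx, hxe⟩ := h h1
  have : x = siegel Q u w hu hw := (cj φ).injective hxe
  rw [← this]
  exact hx

/-- (T1) **the list lemma for symplectic spaces of characteristic 2** -/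
theorem sp_abs (hP : H659.CovCore.S5948Stmt.{u}) (h2 : (2 : F) = 0) (hQ : Nondeg Q)
    (hH : ∀ h ∈ H, ∀ u v, polar Q (h u) (h v) = polar Q u v)
    {g : V ≃ₗ[F] V} (hg : g ∈ H) {k : ℕ} (hnum : Num (Fintype.card F) (finrank F V) k (orderOf g)) :
    (∃ W : Submodule F V, W ≠ ⊥ ∧ W ≠ ⊤ ∧ ∀ h ∈ H, ∀ w ∈ W, h w ∈ W) ∨
    (∃ s, s.Prime ∧ s ∣ Nat.gcd (finrank F V) k ∧ AExt s H) ∨
    (∀ x : V ≃ₗ[F] V, (∀ u v, polar Q (x u) (x v) = polar Q u v) → x ∈ H) ∨
    (∃ Q' : QuadraticForm F V, (∀ u v, polar Q' u v = polar Q u v) ∧ E Q' ≤ H) := by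
  set n := finrank F V with hn
  let φ : V ≃ₗ[F] (Fin n → F) := LinearEquiv.ofFinrankEq _ _ (by rw [Module.finrank_fintype_fun_eq_card, Fintype.card_fin])
  have hQ' := nondeg_tq hQ φ
  have hQ'' := H884.OddForm.isNondegenerate_of_nondeg _ hQ'
  have ho : orderOf (cj φ g) = orderOf g := MulEquiv.orderOf_eq _ g
  have hten := hnum.ten
  have hpres : ∀ h : V ≃ₗ[F] V, (∀ u v, polar Q (h u) (h v) = polar Q u v) ↔
      ∀ u v, polar (⇑(tq Q φ)) ((cj φ h : Matrix (Fin n) (Fin n) F) *ᵥ u) ((cj φ h : Matrix (Fin n) (Fin n) F) *ᵥ v) =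
        polar (⇑(tq Q φ)) u v := by
    intro h
    constructor
    · intro hh u v
      rw [polar_tq, polar_tq, cj_apply, cj_apply, φ.symm_apply_apply, φ.symm_apply_apply]
      exact hh _ _
    · intro hh u v
      have h1 := hh (φ u) (φ v)
      rw [polar_tq, polar_tq, cj_apply', cj_apply', φ.symm_apply_apply, φ.symm_apply_apply, φ.symm_apply_apply,
        φ.symm_apply_apply] at h1
      exact h1
  rcases sp_iso hP h2 (k := k) hQ'' (H := H.map (cj φ).toMonoidHom) (by
    rintro _ ⟨x, hx, rfl⟩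
    exact (hpres x).1 (hH x hx)) (g := cj φ g) ⟨g, hg, rfl⟩
    (by rw [ho, Fintype.card_fin]; exact hnum) with ⟨W, hW0, hW1, hW⟩ | ⟨s, K, hs, hsd, hK, hle⟩ | h | ⟨Q₁, hQ₁, hp, h⟩
  · left
    refine ⟨W.comap (φ : V →ₗ[F] (Fin n → F)), ?_, ?_, ?_⟩
    · intro h0
      apply hW0
      rw [Submodule.eq_bot_iff]
      intro w hw
      have : φ.symm w ∈ W.comap (φ : V →ₗ[F] (Fin n → F)) := by
        change φ (φ.symm w) ∈ W
        rwa [φ.apply_symm_apply]
      rw [h0, Submodule.mem_bot] at this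
      rw [← φ.apply_symm_apply w, this, map_zero]
    · intro h0
      apply hW1
      rw [eq_top_iff]
      intro w _
      have : φ.symm w ∈ W.comap (φ : V →ₗ[F] (Fin n → F)) := by rw [h0]; trivial
      have h1 : φ (φ.symm w) ∈ W := this
      rwa [φ.apply_symm_apply] at h1
    · intro h hh w hw
      have h1 : cj φ h ∈ subspaceStabilizer W := hW ⟨h, hh, rfl⟩
      have h2 : (cj φ h : Matrix (Fin n) (Fin n) F) *ᵥ φ w ∈ W := (h1 (φ w)).1 hw
      rw [cj_apply'] at h2
      exact h2
  · right; left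
    rw [Fintype.card_fin] at hsd
    exact ⟨s, hs, hsd, n, φ, K, hs, hK, hle⟩
  · right; right; left
    intro x hx
    obtain ⟨y, hy, hyx⟩ := h (cj φ x) ((hpres x).1 hx)
    have : y = x := (cj φ).injective hyx
    rw [← this]
    exact hy
  · right; right; right
    let Q₂ : QuadraticForm F V := (H884.OmegaGL.bundle Q₁ hQ₁).comp (φ : V →ₗ[F] (Fin n → F))
    have hq : (⇑(tq Q₂ φ) : (Fin n → F) → F) = Q₁ := by
      funext v
      change Q₁ (φ (φ.symm v)) = Q₁ v
      rw [φ.apply_symm_apply]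
    have hp2 : ∀ u v, polar Q₂ u v = polar Q u v := by
      intro u v
      have h1 := hp (φ u) (φ v)
      have e1 : polar Q₂ u v = polar Q₁ (φ u) (φ v) := by
        change Q₁ (φ (u + v)) - Q₁ (φ u) - Q₁ (φ v) = Q₁ (φ u + φ v) - Q₁ (φ u) - Q₁ (φ v)
        rw [map_add]
      rw [e1, h1, polar_tq, φ.symm_apply_apply, φ.symm_apply_apply]
    refine ⟨Q₂, hp2, E_le_of φ (by rw [Fintype.card_fin]; omega) (by rw [hq]; exact hQ₁) (by rw [hq]; exact h)⟩

end abs

end Cfsg.Agent.H128.Rg
end

-- part: H925/Rs/Fct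
section
prune_inst 0x8002000018000000000000080000000040000040000800080028200500200000000110080000800000000000000000000000000000000000000020800144000300010c060009000000000000000000000000000000000000000000000000000
set_option linter.all false
open scoped Cfsg.Agent.FastGrp

-- part: H925/Rs/Elt
section
/-!
# S3691: elements of primitive prime order in isometry groups of alternating forms (helper925)

* `blk` : an element of order `t`, `ord_t(q) = k > n / 2`;  `dim_odd` : `k` odd, `k > n / 4`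
* `ext_even`, `ext_odd` : consequences of `AExt`;  `par` : two parities
* `sp_list` : the list lemma for groups of isometries (dimension at least ten)
-/

set_option autoImplicit false
set_option linter.unusedSectionVars false

namespace Cfsg.Agent.H925.Rs

open Module QuadraticMap Cfsg Cfsg.Geo Matrix Polynomial Cfsg.Agent.LieClassical.OrthCore Cfsg.Agent.H884.El Cfsg.Agent.H449.Reg
open Cfsg.Agent.H951 (fx cm Inv Irr Frm Nd TI Isom)
open Cfsg.Agent.H278.Cov (Num Red Ext)
open scoped MatrixGroups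

universe v w

section elt

variable {F : Type v} [Field F] {V : Type w} [AddCommGroup V] [Module F V] {B : LinearMap.BilinForm F V}

theorem frm (hB : ∀ x, B x x = 0) : Frm (RingHom.id F) (-1) (fun u v => B u v) where
  add_left u v w := by rw [map_add, LinearMap.add_apply]
  smul_left a u v := by rw [map_smul, LinearMap.smul_apply, smul_eq_mul]
  herm u v := by
    have h1 := hB (u + v)
    simp only [map_add, LinearMap.add_apply, hB, zero_add, add_zero] at h1
    change B v u = -1 * B u v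
    linear_combination h1
  sigma_sq _ := rfl
  eps_ne := by simp

theorem isom_of {x : V ≃ₗ[F] V} (hx : x ∈ Isos B) : Isom (fun u v => B u v) (x : Module.End F V) := fun u v => hx u v

theorem nd_top (hnd : ∀ x, (∀ y, B x y = 0) → x = 0) : Nd (fun u v => B u v) (⊤ : Submodule F V) := by
  intro u _ hu
  by_contra h
  push Not at h
  exact hu (hnd u fun y => h y trivial)

theorem even_of_nd [FiniteDimensional F V] (hB : ∀ x, B x x = 0) {W : Submodule F V} (hW : Nd (fun u v => B u v) W) :
    Even (finrank F W) := H951.even_finrank_of_alt (frm hB) hB hW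

variable [Fintype F] [FiniteDimensional F V] {x : V ≃ₗ[F] V} {t k : ℕ}

theorem pow_coe (x : V ≃ₗ[F] V) (n : ℕ) : ((x ^ n : V ≃ₗ[F] V) : Module.End F V) = (x : Module.End F V) ^ n := by
  induction n with
  | zero => rfl
  | succ n ih =>
    rw [pow_succ, pow_succ, ← ih]
    rfl

theorem coe_pow_eq (hx : x ^ t = 1) : (x : Module.End F V) ^ t = 1 := by rw [← pow_coe, hx]; rfl

theorem coe_ne_one (hx : x ≠ 1) : (x : Module.End F V) ≠ 1 := fun h => hx (by
  apply LinearEquiv.ext
  intro v
  exact congrArg (fun e : Module.End F V => e v) h)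

/-- data of an element of order `t`, `ord_t(q) = k > n / 2` -/
theorem blk (ht : PP (Nat.card F) k t) (hk : 2 ≤ k) (hn : finrank F V < 2 * k) (hx : x ^ t = 1) (hx1 : x ≠ 1) :
    finrank F (fx (x : Module.End F V)) + k = finrank F V ∧ finrank F (cm (x : Module.End F V)) = k ∧
    (∀ W : Submodule F V, _root_.Cfsg.Agent.H951.Inv (x : Module.End F V) W → W ≤ fx (x : Module.End F V) ∨ cm (x : Module.End F V) ≤ W) ∧
      ∀ U ≤ cm (x : Module.End F V), _root_.Cfsg.Agent.H951.Inv (x : Module.End F V) U → U = ⊥ ∨ U = cm (x : Module.End F V) := by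
  have := Fact.mk ht.prime
  have hx' := coe_pow_eq hx
  have hx1' := coe_ne_one hx1
  have h0 : (t : F) ≠ 0 := ht.ne0 (by omega)
  have hc := H951.isCompl_fx_cm h0 hx'
  have hdvd : ∀ W : Submodule F V, _root_.Cfsg.Agent.H951.Inv (x : Module.End F V) W → k ∣ finrank F ↥(W ⊓ cm (x : Module.End F V)) := by
    intro W hW
    rw [← ord_eq ht]
    exact H951.ord_dvd_finrank hx' (hW.inf H951.inv_cm) (H951.inf_fx_of_le_cm h0 hx' inf_le_right)
  have hcm : finrank F (cm (x : Module.End F V)) = k := by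
    have h1 := hdvd ⊤ H951.inv_top
    rw [top_inf_eq] at h1
    have h2 : finrank F (cm (x : Module.End F V)) ≤ finrank F V := Submodule.finrank_le _
    have h3 : finrank F (cm (x : Module.End F V)) ≠ 0 := fun h => cm_ne_bot hx1' (Submodule.finrank_eq_zero.1 h)
    obtain ⟨A, hA⟩ := h1
    have hA1 : A = 1 := by
      have h4 : A < 2 := by
        by_contra hcon
        push Not at hcon
        have := Nat.mul_le_mul_left k hcon
        omega
      have h5 : A ≠ 0 := by rintro rfl; omega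
      omega
    rw [hA, hA1, mul_one]
  have hor : ∀ W : Submodule F V, _root_.Cfsg.Agent.H951.Inv (x : Module.End F V) W →
      W ≤ fx (x : Module.End F V) ∨ cm (x : Module.End F V) ≤ W := by
    intro W hW
    have h1 := hdvd W hW
    have h2 : finrank F ↥(W ⊓ cm (x : Module.End F V)) ≤ finrank F (cm (x : Module.End F V)) :=
      Submodule.finrank_mono inf_le_right
    rcases Nat.eq_zero_or_pos (finrank F ↥(W ⊓ cm (x : Module.End F V))) with h3 | h3
    · left
      have h4 : W ⊓ cm (x : Module.End F V) = ⊥ := Submodule.finrank_eq_zero.1 h3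
      have h5 := H951.inf_fx_sup_inf_cm h0 hx' hW
      rw [h4, sup_bot_eq] at h5
      rw [← h5]
      exact inf_le_right
    · right
      have := Nat.le_of_dvd h3 h1
      have h6 : W ⊓ cm (x : Module.End F V) = cm (x : Module.End F V) := Submodule.eq_of_le_of_finrank_eq inf_le_right (by omega)
      rw [← h6]
      exact inf_le_left
  have hadd := H951.finrank_fx_add_cm h0 hx'
  refine ⟨by omega, hcm, hor, fun U hU hUi => ?_⟩
  rcases hor U hUi with h1 | h1
  · left
    rw [eq_bot_iff, ← hc.inf_eq_bot]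
    exact le_inf h1 hU
  · exact Or.inr (le_antisymm hU h1)

/-- the general divisibility: `k` divides the dimension of `[V, x]` -/
theorem dvd_cm (ht : PP (Nat.card F) k t) (hk : 2 ≤ k) (hx : x ^ t = 1) : k ∣ finrank F (cm (x : Module.End F V)) := by
  have := Fact.mk ht.prime
  have hx' := coe_pow_eq hx
  have h0 : (t : F) ≠ 0 := ht.ne0 (by omega)
  rw [← ord_eq ht]
  exact H951.ord_dvd_finrank hx' H951.inv_cm (H951.inf_fx_of_le_cm h0 hx' le_rfl)

theorem add_fx_cm (ht : PP (Nat.card F) k t) (hk : 2 ≤ k) (hx : x ^ t = 1) :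
    finrank F (fx (x : Module.End F V)) + finrank F (cm (x : Module.End F V)) = finrank F V := by
  have := Fact.mk ht.prime
  exact H951.finrank_fx_add_cm (ht.ne0 (by omega)) (coe_pow_eq hx)

theorem nd_cm (hB : ∀ x, B x x = 0) (hnd : ∀ x, (∀ y, B x y = 0) → x = 0) (ht : PP (Nat.card F) k t) (hk : 2 ≤ k) (hxI : x ∈ Isos B)
    (hx : x ^ t = 1) : Nd (fun u v => B u v) (cm (x : Module.End F V)) := by
  have := Fact.mk ht.prime
  have h1 := (isom_of hxI).nd_inf_cm (frm hB) (ht.ne0 (by omega)) (coe_pow_eq hx) H951.inv_top (nd_top hnd)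
  rwa [top_inf_eq] at h1

theorem nd_fx (hB : ∀ x, B x x = 0) (hnd : ∀ x, (∀ y, B x y = 0) → x = 0) (ht : PP (Nat.card F) k t) (hk : 2 ≤ k) (hxI : x ∈ Isos B)
    (hx : x ^ t = 1) : Nd (fun u v => B u v) (fx (x : Module.End F V)) := by
  have := Fact.mk ht.prime
  have h1 := (isom_of hxI).nd_inf_fx (frm hB) (ht.ne0 (by omega)) (coe_pow_eq hx) H951.inv_top (nd_top hnd)
  rwa [top_inf_eq] at h1

/-- **odd** `k` : `dim [V, x] = 2 k` if `4 k > dim V` -/
theorem dim_odd (hB : ∀ x, B x x = 0) (hnd : ∀ x, (∀ y, B x y = 0) → x = 0) (ht : PP (Nat.card F) k t) (hk : 2 ≤ k)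
    (hodd : Odd k) (hn : finrank F V < 4 * k) (hxI : x ∈ Isos B) (hx : x ^ t = 1) (hx1 : x ≠ 1) :
    finrank F (cm (x : Module.End F V)) = 2 * k := by
  obtain ⟨a, ha⟩ := dvd_cm ht hk hx
  have hev := even_of_nd hB (nd_cm hB hnd ht hk hxI hx)
  rw [ha, Nat.even_mul] at hev
  have h2 : finrank F (cm (x : Module.End F V)) ≤ finrank F V := Submodule.finrank_le _
  have h3 : finrank F (cm (x : Module.End F V)) ≠ 0 := fun h => cm_ne_bot (coe_ne_one hx1) (Submodule.finrank_eq_zero.1 h)
  rcases hev with h4 | ⟨b, hb⟩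
  · exact absurd h4 (Nat.not_even_iff_odd.2 hodd)
  · have h5 : a < 4 := by
      by_contra hcon
      push Not at hcon
      have := Nat.mul_le_mul_left k hcon
      rw [ha] at h2
      omega
    have h6 : b ≠ 0 := by
      rintro rfl
      rw [hb, add_zero, mul_zero] at ha
      exact h3 ha
    have h7 : a = 2 := by omega
    rw [ha, h7, mul_comm]

/-- **the extension field and an element of order** `t`, `k` even, `k > n / 2` -/
theorem ext_even {H : Subgroup (V ≃ₗ[F] V)} {s : ℕ} (hA : AExt s H) (hxH : x ∈ H) (ht : PP (Nat.card F) k t) (hk : 2 ≤ k)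
    (hn : finrank F V < 2 * k) (hx : x ^ t = 1) (hx1 : x ≠ 1) (hts : t ≠ s) : s ∣ k := by
  obtain ⟨h1, h2, -, -⟩ := blk ht hk hn hx hx1
  have h3 := hA.dvd_finrank
  have h4 := hA.dvd_fx hxH ht.prime hx hts
  rw [← h1] at h3
  exact (Nat.dvd_add_right h4).1 h3

/-- the kernel of a polynomial -/
theorem AExt.dvd_ker {H : Subgroup (V ≃ₗ[F] V)} {s : ℕ} (h : AExt s H) (hxH : x ∈ H)
    (hr : t.Prime) (hxr : x ^ t = 1) (hrs : t ≠ s) (P : F[X]) :
    s ∣ finrank F (LinearMap.ker (aeval (x : Module.End F V) P)) := by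
  obtain ⟨n, φ, K, hs, hK, hle⟩ := h
  have h0 : (cj φ x) ^ t = 1 := by rw [← map_pow, hxr, map_one]
  have h1 := H906.Cov.ext_dvd hs hK (t := cj φ x) (hle ⟨x, hxH, rfl⟩)
    (Nat.Coprime.coprime_dvd_left (orderOf_dvd_of_pow_eq_one h0) ((Nat.coprime_primes hr hs).2 hrs)) P
  have hcomm : ∀ (P : F[X]) (w : V), aeval (Matrix.toLin' (cj φ x : Matrix (Fin n) (Fin n) F)) P (φ w) =
      φ (aeval (x : Module.End F V) P w) := by
    intro P w
    induction P using Polynomial.induction_on' with
    | add a b ha hb => simp only [map_add, LinearMap.add_apply, ha, hb]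
    | monomial i a =>
      rw [aeval_monomial, aeval_monomial, Module.End.mul_apply, Module.End.mul_apply, Module.algebraMap_end_apply,
        Module.algebraMap_end_apply, map_smul]
      congr 1
      induction i with
      | zero => rfl
      | succ i ih =>
        rw [pow_succ', pow_succ', Module.End.mul_apply, Module.End.mul_apply, ih, Matrix.toLin'_apply, cj_apply']
        rfl
  have h2 : (LinearMap.ker (aeval (x : Module.End F V) P)).map (φ : V →ₗ[F] (Fin n → F)) =
      LinearMap.ker (aeval (Matrix.toLin' (cj φ x : Matrix (Fin n) (Fin n) F)) P) := by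
    ext w
    rw [LinearMap.mem_ker]
    constructor
    · rintro ⟨v, hv, rfl⟩
      change aeval (Matrix.toLin' (cj φ x : Matrix (Fin n) (Fin n) F)) P (φ v) = 0
      rw [hcomm, LinearMap.mem_ker.1 hv, map_zero]
    · intro h4
      refine ⟨φ.symm w, ?_, φ.apply_symm_apply w⟩
      apply φ.injective
      rw [← hcomm, φ.apply_symm_apply, h4, map_zero]
  rw [← h2] at h1
  rwa [LinearEquiv.finrank_map_eq φ] at h1

/-- a polynomial with kernel of dimension `k`, `k` odd, `dim [V, x] = 2 k` -/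
theorem exists_ker (hB : ∀ x, B x x = 0) (hnd : ∀ x, (∀ y, B x y = 0) → x = 0) (ht : PP (Nat.card F) k t) (hk : 2 ≤ k)
    (hodd : Odd k) (hxI : x ∈ Isos B) (hx : x ^ t = 1) (hdim : finrank F (cm (x : Module.End F V)) = 2 * k) :
    ∃ P : F[X], finrank F (LinearMap.ker (aeval (x : Module.End F V) P)) = k := by
  have := Fact.mk ht.prime
  have hx' := coe_pow_eq hx
  have h0 : (t : F) ≠ 0 := ht.ne0 (by omega)
  have hfr := frm (B := B) hB
  have hiso := isom_of hxI
  have hss := H951.semisimple_of_pow h0 hx'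
  have hnc := nd_cm hB hnd ht hk hxI hx
  have hne : cm (x : Module.End F V) ≠ ⊥ := by
    intro h
    rw [h, finrank_bot] at hdim
    omega
  have hirr : ∀ S : Submodule F V, Irr (x : Module.End F V) S → S ≤ cm (x : Module.End F V) → finrank F S = k := by
    intro S hS hSc
    rw [hS.finrank_eq h0 hx' hSc, ord_eq ht]
  have hno : ∀ S : Submodule F V, Irr (x : Module.End F V) S → S ≤ cm (x : Module.End F V) → ¬ Nd (fun u v => B u v) S := by
    intro S hS hSc hSn
    have h1 := even_of_nd hB hSn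
    rw [hirr S hS hSc] at h1
    exact (Nat.not_even_iff_odd.2 hodd) h1
  rcases H951.exists_block hfr hiso x.injective hss H951.inv_cm hnc hne with ⟨U, hU, hUi, hUn⟩ | ⟨U, U', hU, hU', hUi, hUi', hti, hti', hint, hp, -⟩
  · exact (hno U hUi hU hUn).elim
  · have hcy : cyclotomic t F ≠ 0 := cyclotomic_ne_zero t F
    obtain ⟨P, hP, hd, hPU⟩ := hUi.exists_factor (cyclotomic t F) hcy fun v hv => H951.cyclotomic_apply_of_mem_cm hx' (hU hv)
    have hdeg : P.natDegree = k := by rw [← hUi.finrank_eq_natDegree hP hPU, hirr U hUi hU]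
    refine ⟨P, ?_⟩
    -- the kernel lies in `[V, x]`
    have hker : LinearMap.ker (aeval (x : Module.End F V) P) ≤ cm (x : Module.End F V) := by
      apply H951.le_cm_of_inf_fx h0 hx' (H951.inv_ker_aeval P)
      rw [eq_bot_iff]
      rintro v ⟨hv, hvf⟩
      by_contra hv0
      have h1 := H951.natDegree_le_finrank (W := F ∙ v) hP (LinearMap.mem_ker.1 hv) hv0 (by
        intro w hw
        obtain ⟨a, rfl⟩ := Submodule.mem_span_singleton.1 hw
        rw [map_smul, H951.mem_fx.1 hvf]
        exact Submodule.smul_mem _ _ (Submodule.mem_span_singleton_self v)) (Submodule.mem_span_singleton_self v)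
      rw [hdeg, finrank_span_singleton hv0] at h1
      omega
    obtain ⟨a, ha⟩ := H951.natDegree_dvd_finrank hss hP (H951.inv_ker_aeval P) (W := LinearMap.ker (aeval (x : Module.End F V) P))
      (fun v hv => LinearMap.mem_ker.1 hv)
    rw [hdeg] at ha
    have hle : finrank F (LinearMap.ker (aeval (x : Module.End F V) P)) ≤ 2 * k := by
      rw [← hdim]; exact Submodule.finrank_mono hker
    have hUk : U ≤ LinearMap.ker (aeval (x : Module.End F V) P) := fun v hv => LinearMap.mem_ker.2 (hPU v hv)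
    have hge := Submodule.finrank_mono hUk
    rw [hirr U hUi hU] at hge
    by_contra hcon
    have ha2 : a = 2 := by
      have h1 : a < 3 := by
        by_contra h2
        push Not at h2
        have := Nat.mul_le_mul_left k h2
        omega
      have h2 : a ≠ 0 := by rintro rfl; omega
      have h3 : a ≠ 1 := by rintro rfl; rw [mul_one] at ha; exact hcon ha
      omega
    subst ha2
    have hall : LinearMap.ker (aeval (x : Module.End F V) P) = cm (x : Module.End F V) :=
      Submodule.eq_of_le_of_finrank_eq hker (by omega)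
    obtain ⟨S, hS, hSi, hSn⟩ := H951.exists_nd_irr hfr hiso x.injective hP hUi hUi' hPU
      (fun u hu => LinearMap.mem_ker.1 (by rw [hall]; exact hU' hu)) hti hti' hp (by
        by_contra hcon2
        push Not at hcon2
        obtain ⟨u, hu, hu0⟩ := (Submodule.ne_bot_iff _).1 hUi'.1
        have h1 : (x : Module.End F V) ((x : Module.End F V) u) = u := hcon2 u hu
        have h2 : ((x : Module.End F V) ^ 2) u = u := by rw [pow_two]; exact h1
        have ht2 : Odd t := ht.odd hk
        obtain ⟨c, hc⟩ := ht2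
        have h3 : (((x : Module.End F V) ^ 2) ^ c) u = u := H951.pow_fx h2 c
        have h4 : ((x : Module.End F V) ^ t) u = (x : Module.End F V) u := by
          rw [hc, pow_succ', pow_mul, Module.End.mul_apply, h3]
        rw [hx'] at h4
        have h5 : u ∈ fx (x : Module.End F V) := H951.mem_fx.2 h4.symm
        have h6 := (H951.isCompl_fx_cm h0 hx').inf_eq_bot
        apply hu0
        rw [← Submodule.mem_bot F, ← h6]
        exact ⟨h5, hU' hu⟩)
    exact hno S hSi (hS.trans (sup_le hU hU')) hSn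

/-- **the extension field and an element of order** `t`, `k` odd, `dim [V, x] = 2 k` -/
theorem ext_odd {H : Subgroup (V ≃ₗ[F] V)} {s : ℕ} (hB : ∀ x, B x x = 0) (hnd : ∀ x, (∀ y, B x y = 0) → x = 0)
    (hA : AExt s H) (hxH : x ∈ H) (hxI : x ∈ Isos B) (ht : PP (Nat.card F) k t) (hk : 2 ≤ k) (hodd : Odd k)
    (hdim : finrank F (cm (x : Module.End F V)) = 2 * k) (hx : x ^ t = 1) (hts : t ≠ s) : s ∣ k := by
  obtain ⟨P, hP⟩ := exists_ker hB hnd ht hk hodd hxI hx hdim
  rw [← hP]
  exact AExt.dvd_ker hA hxH ht.prime hx hts P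

/-- **two parities** : `2 j`, `2 k` with `j / 2 + k / 2` odd -/
theorem par (hB : ∀ x, B x x = 0) (hnd : ∀ x, (∀ y, B x y = 0) → x = 0) {H : Subgroup (V ≃ₗ[F] V)} (hH : H ≤ Isos B)
    (hirr : ∀ W : Submodule F V, (∀ h ∈ H, ∀ w ∈ W, h w ∈ W) → W = ⊥ ∨ W = ⊤) {j k r s : ℕ}
    (hr : PP (Nat.card F) j r) (hs : PP (Nat.card F) k s) (hj : Even j) (hk : Even k) (hnj : finrank F V < 2 * j)
    (hnk : finrank F V < 2 * k) (hj2 : 2 ≤ j) (hk2 : 2 ≤ k) (hpar : Odd (j / 2 + k / 2))
    (hrH : r ∣ Nat.card H) (hsH : s ∣ Nat.card H) (hA : AExt 2 H) : False := by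
  obtain ⟨n, φ, K, -, hK, hle⟩ := hA
  have hn' := finrank_of_equiv φ
  have hc : Nat.card (H.map (cj φ).toMonoidHom) = Nat.card H := Subgroup.card_map_of_injective (cj φ).injective
  let B' : LinearMap.BilinForm F (Fin n → F) := B.compl₁₂ (φ.symm : (Fin n → F) →ₗ[F] V) (φ.symm : (Fin n → F) →ₗ[F] V)
  have hB' : ∀ u v, B' u v = B (φ.symm u) (φ.symm v) := fun u v => rfl
  have hBn : B'.Nondegenerate := by
    apply nondeg_of
    · intro x; rw [hB']; exact hB _
    · intro x hx
      have h1 := hnd (φ.symm x) fun y => by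
        have := hx (φ y)
        rwa [hB', φ.symm_apply_apply] at this
      rw [← φ.apply_symm_apply x, h1, map_zero]
  refine no_field2_gen (H := H.map (cj φ).toMonoidHom) (B := B') ?_ hBn ?_ hr hs hj hk (by rw [Fintype.card_fin]; omega)
    (by rw [Fintype.card_fin]; omega) hj2 hk2 hpar (by rw [hc]; exact hrH) (by rw [hc]; exact hsH) hK hle
  · intro W hW
    rcases hirr (W.comap (φ : V →ₗ[F] (Fin n → F))) (by
      intro h hh w hw
      have h1 := hW _ ⟨cj φ h, ⟨h, hh, rfl⟩, rfl⟩ ⟨φ w, hw, rfl⟩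
      rw [Matrix.toLin'_apply, cj_apply'] at h1
      exact h1) with h1 | h1
    · left
      rw [Submodule.eq_bot_iff] at h1 ⊢
      intro w hw
      have : φ.symm w ∈ W.comap (φ : V →ₗ[F] (Fin n → F)) := by
        change φ (φ.symm w) ∈ W
        rwa [φ.apply_symm_apply]
      rw [← φ.apply_symm_apply w, h1 _ this, map_zero]
    · right
      rw [eq_top_iff]
      intro w _
      have : φ.symm w ∈ W.comap (φ : V →ₗ[F] (Fin n → F)) := by rw [h1]; trivial
      have h2 : φ (φ.symm w) ∈ W := this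
      rwa [φ.apply_symm_apply] at h2
  · rintro _ ⟨x, hx, rfl⟩ u w
    change B' ((cj φ x : Matrix (Fin n) (Fin n) F) *ᵥ u) ((cj φ x : Matrix (Fin n) (Fin n) F) *ᵥ w) = _
    rw [hB', hB', cj_apply, cj_apply, φ.symm_apply_apply, φ.symm_apply_apply]
    exact hH hx _ _

/-- a quadratic form with a given polarisation, characteristic two -/
theorem exists_quad (h2 : (2 : F) = 0) (hB : ∀ x, B x x = 0) : ∃ Q : QuadraticForm F V, ∀ u v, polar Q u v = B u v := by
  classical
  let b := finBasis F V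
  let M : Matrix (Fin (finrank F V)) (Fin (finrank F V)) F := fun i j => if i < j then B (b i) (b j) else 0
  let T : LinearMap.BilinForm F V := Matrix.toBilin b M
  refine ⟨LinearMap.BilinMap.toQuadraticMap T, fun u v => ?_⟩
  have h1 : polar (LinearMap.BilinMap.toQuadraticMap T) u v = T u v + T v u := by
    simp only [polar, LinearMap.BilinMap.toQuadraticMap_apply, map_add, LinearMap.add_apply]
    ring
  have h3 : T + T.flip = B := by
    refine LinearMap.BilinForm.ext_basis b fun i j => ?_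
    change T (b i) (b j) + T (b j) (b i) = B (b i) (b j)
    have hT : ∀ i j, T (b i) (b j) = M i j := by
      intro i j
      have h5 := congrFun (congrFun (LinearMap.BilinForm.toMatrix_toBilin b M) i) j
      rw [LinearMap.BilinForm.toMatrix_apply] at h5
      exact h5
    rw [hT, hT]
    change (if i < j then B (b i) (b j) else 0) + (if j < i then B (b j) (b i) else 0) = _
    rcases lt_trichotomy i j with h | h | h
    · rw [if_pos h, if_neg (not_lt.2 h.le), add_zero]
    · subst h
      rw [if_neg (lt_irrefl _), add_zero, hB]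
    · rw [if_neg (not_lt.2 h.le), if_pos h, zero_add]
      have h4 := hB (b i + b j)
      simp only [map_add, LinearMap.add_apply, hB, zero_add, add_zero] at h4
      linear_combination h4 - (B (b i) (b j)) * h2
  rw [h1, ← h3]
  rfl

/-- **the list lemma** -/
theorem sp_list (hP : H659.CovCore.S5948Stmt.{v}) (hB : ∀ x, B x x = 0) (hnd : ∀ x, (∀ y, B x y = 0) → x = 0)
    {H : Subgroup (V ≃ₗ[F] V)} (hH : H ≤ Isos B) (hne : ¬ Isos B ≤ H) {g : V ≃ₗ[F] V} (hg : g ∈ H)
    (hnum : Num (Fintype.card F) (finrank F V) k (orderOf g)) :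
    (∃ W : Submodule F V, W ≠ ⊥ ∧ W ≠ ⊤ ∧ ∀ h ∈ H, ∀ w ∈ W, h w ∈ W) ∨
    (∃ s, s.Prime ∧ s ∣ Nat.gcd (finrank F V) k ∧ AExt s H) ∨
    ((2 : F) = 0 ∧ ∃ Q : QuadraticForm F V, (∀ u v, polar Q u v = B u v) ∧ E Q ≤ H) := by
  by_cases h2 : (2 : F) = 0
  · obtain ⟨Q, hQ⟩ := exists_quad h2 hB
    have hQn : LieClassical.OrthCore.Nondeg Q := by
      intro x hx
      exact hnd x fun y => by rw [← hQ]; exact hx y
    rcases H128.Rg.sp_abs hP h2 hQn (H := H) (fun h hh u v => by rw [hQ, hQ]; exact hH hh u v) hg hnum with h | h | h | ⟨Q', h3, h4⟩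
    · exact Or.inl h
    · exact Or.inr (Or.inl h)
    · exfalso
      apply hne
      intro x hx
      exact h x fun u v => by rw [hQ, hQ]; exact hx u v
    · exact Or.inr (Or.inr ⟨h2, Q', fun u v => by rw [h3, hQ], h4⟩)
  · -- odd characteristic
    set n := finrank F V with hn
    let φ : V ≃ₗ[F] (Fin n → F) := LinearEquiv.ofFinrankEq _ _ (by rw [Module.finrank_fintype_fun_eq_card, Fintype.card_fin])
    have ho : orderOf (cj φ g) = orderOf g := MulEquiv.orderOf_eq _ g
    have hodd : Odd (Fintype.card F) := by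
      rw [← Nat.not_even_iff_odd]
      intro h3
      apply h2
      have h4 : ((Fintype.card F : ℕ) : F) = 0 := FiniteField.cast_card_eq_zero F
      obtain ⟨p, hp⟩ := CharP.exists F
      have hpp : p.Prime := CharP.char_is_prime F p
      obtain ⟨a, -, ha⟩ := FiniteField.card F p
      rw [ha] at h3
      have h5 : p = 2 := by
        have h6 := even_iff_two_dvd.1 h3
        exact ((Nat.prime_dvd_prime_iff_eq Nat.prime_two hpp).1 (Nat.prime_two.dvd_of_dvd_pow h6)).symm
      subst h5
      exact CharP.cast_eq_zero F 2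
    let f' : (Fin n → F) → (Fin n → F) → F := fun u v => B (φ.symm u) (φ.symm v)
    have hpres : ∀ h : V ≃ₗ[F] V, (h ∈ Isos B) ↔
        ∀ u v, f' ((cj φ h : Matrix (Fin n) (Fin n) F) *ᵥ u) ((cj φ h : Matrix (Fin n) (Fin n) F) *ᵥ v) = f' u v := by
      intro h
      constructor
      · intro hh u v
        change B (φ.symm _) (φ.symm _) = B (φ.symm u) (φ.symm v)
        rw [cj_apply, cj_apply, φ.symm_apply_apply, φ.symm_apply_apply]
        exact hh _ _
      · intro hh u v
        have h1 : B (φ.symm ((cj φ h : Matrix (Fin n) (Fin n) F) *ᵥ φ u)) (φ.symm ((cj φ h : Matrix (Fin n) (Fin n) F) *ᵥ φ v)) =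
          B (φ.symm (φ u)) (φ.symm (φ v)) := hh (φ u) (φ v)
        rw [cj_apply', cj_apply', φ.symm_apply_apply, φ.symm_apply_apply, φ.symm_apply_apply, φ.symm_apply_apply] at h1
        exact h1
    have hsk : ∀ u v, B u v = - B v u := by
      intro u v
      have h4 := hB (u + v)
      simp only [map_add, LinearMap.add_apply, hB, zero_add, add_zero] at h4
      linear_combination h4
    have hf' : IsSymplecticForm f' := by
      refine ⟨⟨?_, ?_, ?_, ?_⟩, fun v w => hsk _ _, fun v => hB _, ?_⟩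
      · intro x y v; change B (φ.symm (x + y)) _ = _; rw [map_add, map_add, LinearMap.add_apply]
      · intro c x v; change B (φ.symm (c • x)) _ = _; rw [map_smul, map_smul, LinearMap.smul_apply, smul_eq_mul]
      · intro v x y; change B _ (φ.symm (x + y)) = _; rw [map_add, map_add]
      · intro c v x; change B _ (φ.symm (c • x)) = _; rw [map_smul, map_smul, smul_eq_mul]
      · intro v hv
        have h1 : ∃ y, B (φ.symm v) y ≠ 0 := by
          by_contra h3
          push Not at h3
          have h4 := hnd _ h3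
          apply hv
          rw [← φ.apply_symm_apply v, h4, map_zero]
        obtain ⟨y, hy⟩ := h1
        refine ⟨⟨φ y, ?_⟩, ⟨φ y, ?_⟩⟩
        · change B (φ.symm (φ y)) (φ.symm v) ≠ 0
          rw [φ.symm_apply_apply, hsk]
          exact neg_ne_zero.2 hy
        · change B (φ.symm v) (φ.symm (φ y)) ≠ 0
          rw [φ.symm_apply_apply]
          exact hy
    rcases H659.CovSp.og_sp hP (k := k) hodd hf' (H := H.map (cj φ).toMonoidHom) (by
      rintro _ ⟨_, ⟨x, hx, rfl⟩, rfl⟩ u v
      exact (hpres x).1 (hH hx) u v) (by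
      by_contra hcon
      push Not at hcon
      apply hne
      intro x hx
      obtain ⟨y, hy, hyx⟩ := hcon (cj φ x) (by
        rintro _ rfl u v
        exact (hpres x).1 hx u v)
      have : y = x := (cj φ).injective hyx
      rw [← this]
      exact hy) (g := cj φ g) ⟨g, hg, rfl⟩ (by rw [ho, Fintype.card_fin]; exact hnum) with ⟨W, hW0, hW1, hW⟩ | ⟨s, K, hs, hsd, hK, hle⟩
    · left
      refine ⟨W.comap (φ : V →ₗ[F] (Fin n → F)), ?_, ?_, ?_⟩
      · intro h0
        apply hW0
        rw [Submodule.eq_bot_iff]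
        intro w hw
        have : φ.symm w ∈ W.comap (φ : V →ₗ[F] (Fin n → F)) := by
          change φ (φ.symm w) ∈ W
          rwa [φ.apply_symm_apply]
        rw [h0, Submodule.mem_bot] at this
        rw [← φ.apply_symm_apply w, this, map_zero]
      · intro h0
        apply hW1
        rw [eq_top_iff]
        intro w _
        have : φ.symm w ∈ W.comap (φ : V →ₗ[F] (Fin n → F)) := by rw [h0]; trivial
        have h1 : φ (φ.symm w) ∈ W := this
        rwa [φ.apply_symm_apply] at h1
      · intro h hh w hw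
        have h1 : cj φ h ∈ subspaceStabilizer W := hW ⟨h, hh, rfl⟩
        have h2 : (cj φ h : Matrix (Fin n) (Fin n) F) *ᵥ φ w ∈ W := (h1 (φ w)).1 hw
        rw [cj_apply'] at h2
        exact h2
    · right; left
      rw [Fintype.card_fin] at hsd
      exact ⟨s, hs, hsd, n, φ, K, hs, hK, hle⟩

end elt

end Cfsg.Agent.H925.Rs
end

-- part: H925/Rs/Fct
section
/-!
# S3691: facts on the two factors (helper925)

* `pp_q` : primitive primes for `p ^ (f k)` and for `q ^ k`
* `Pair.mem_or`, `Pair.not_both`, `Pair.elt` : primes `t`, `ord_t(q) = k`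
* `Pair.list` : the list lemma for a factor
-/

set_option autoImplicit false
set_option linter.unusedSectionVars false

namespace Cfsg.Agent.H925.Rs

open Module QuadraticMap Cfsg Cfsg.Geo Matrix Polynomial Cfsg.Agent.LieClassical.OrthCore Cfsg.Agent.H884.El Cfsg.Agent.H449.Reg
open Cfsg.Agent.H951 (fx cm Inv Irr Frm Nd TI Isom)
open Cfsg.Agent.H278.Cov (Num Red Ext)
open scoped MatrixGroups

universe v w

theorem pp_q {p f k t q : ℕ} (hf : 1 ≤ f) (_hk : 1 ≤ k) (hq : q = p ^ f) (h : PP p (f * k) t) : PP q k t := by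
  refine ⟨h.prime, ?_⟩
  rw [hq, Nat.cast_pow, orderOf_pow' _ (by omega), h.ord, Nat.gcd_eq_right (Dvd.intro _ rfl), Nat.mul_div_cancel_left _ (by omega)]

theorem not_dvd_f {p f k t : ℕ} (hf : 1 ≤ f) (hk : 1 ≤ k) (h : PP p (f * k) t) : ¬ t ∣ f := by
  intro h0
  have h1 := Nat.le_of_dvd (by omega) h0
  have h2 := h.lt (Nat.mul_pos hf hk)
  have h3 : f ≤ f * k := Nat.le_mul_of_pos_right _ hk
  omega

section

variable {F : Type v} [Field F] [Fintype F] {V : Type w} [AddCommGroup V] [Module F V] [FiniteDimensional F V]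
  {B : LinearMap.BilinForm F V} {p f m k t : ℕ} {A C : Subgroup (V ≃ₗ[F] V)}

theorem finite_end : Finite (V ≃ₗ[F] V) := by
  have : Finite V := Module.finite_of_finite F
  exact DFunLike.finite _

/-- Cauchy -/
theorem exists_elt {H : Subgroup (V ≃ₗ[F] V)} (ht : t.Prime) (h : t ∣ Nat.card H) : ∃ x ∈ H, x ^ t = 1 ∧ x ≠ 1 := by
  have := finite_end (F := F) (V := V)
  have := Fact.mk ht
  obtain ⟨x, hx⟩ := exists_prime_orderOf_dvd_card' t h
  refine ⟨x.1, x.2, ?_, ?_⟩
  · have h1 := congrArg Subtype.val (pow_orderOf_eq_one x)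
    rw [hx] at h1
    exact h1
  · intro h1
    have h2 : x = 1 := Subtype.ext h1
    rw [h2, orderOf_one] at hx
    exact ht.one_lt.ne hx

theorem dvd_card_of {H : Subgroup (V ≃ₗ[F] V)} (ht : t.Prime) {x : V ≃ₗ[F] V} (hxH : x ∈ H) (hx : x ^ t = 1) (hx1 : x ≠ 1) :
    t ∣ Nat.card H := by
  have h1 := orderOf_dvd_natCard (⟨x, hxH⟩ : H)
  rwa [← Subgroup.orderOf_coe, orderOf_eq_prime hx hx1 (hp := ⟨ht⟩)] at h1

/-- `t`-subgroups, `k > n / 2` -/
theorem cyc_of {Γ : Type*} [Group Γ] [Finite Γ] (ht : PP (Nat.card F) k t) (hk : 2 ≤ k) (hn : finrank F V < 2 * k)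
    (hΓ : IsPGroup t Γ) (ρ : Γ →* (V ≃ₗ[F] V)) (hρ : Function.Injective ρ) : IsCyclic Γ := by
  have := Fact.mk ht.prime
  have : Finite V := Module.finite_of_finite F
  let ρ' : Γ →* Module.End F V :=
    { toFun := fun g => (ρ g : Module.End F V)
      map_one' := by rw [map_one]; rfl
      map_mul' := fun a b => by rw [map_mul]; rfl }
  refine H193.Dg.isCyclic_of_R hΓ ρ' ?_ (d := k) ?_ (by omega) (ht.ne0 (by omega)) ?_
  · intro a b hab
    apply hρ
    apply LinearEquiv.ext
    intro v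
    exact congrArg (fun e : Module.End F V => e v) hab
  · intro m hm
    exact (ht.dvd_iff (one_lt_q F).le m).1 hm
  · intro γ hγ hγ1
    exact (blk ht hk hn (x := ρ γ) (by rw [← map_pow, hγ, map_one]) (fun h => hγ1 (hρ (by rw [h, map_one])))).2.1

namespace Pair

variable (P : Pair B p f m A C)
include P

theorem ne_one {x : V ≃ₗ[F] V} (hm : 1 ≤ m) (hx : x ∈ Isos B) {a : F} (h : ∀ v, x v = a • v) : a * a = 1 := by
  have : Nontrivial V := Module.nontrivial_of_finrank_pos (R := F) (by rw [P.dim]; omega)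
  obtain ⟨v, hv⟩ := exists_ne (0 : V)
  obtain ⟨w, hw⟩ : ∃ w, B v w ≠ 0 := by
    by_contra hno
    push Not at hno
    exact hv (P.nondeg v hno)
  have h1 := hx v w
  rw [h, h, map_smul, map_smul, LinearMap.smul_apply, smul_eq_mul, smul_eq_mul, ← mul_assoc] at h1
  exact mul_right_cancel₀ hw (by rw [h1, one_mul])

/-- a scalar isometry of odd order is trivial -/
theorem eq_one_of_scalar {x : V ≃ₗ[F] V} (hm : 1 ≤ m) (hx : x ∈ Isos B) {a : F} (h : ∀ v, x v = a • v) (ht : Odd t)
    (hxt : x ^ t = 1) : x = 1 := by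
  have h1 := P.ne_one hm hx h
  have h2 : x ^ 2 = 1 := by
    apply LinearEquiv.ext
    intro v
    rw [pow_two]
    change x (x v) = v
    rw [h, h, smul_smul, h1, one_smul]
  obtain ⟨c, rfl⟩ := ht
  rw [pow_succ, pow_mul, h2, one_pow, one_mul] at hxt
  exact hxt

theorem two_ne (hk : 2 ≤ k) (ht : PP p (f * k) t) : t ≠ 2 := by
  have h1 := ht.lt (Nat.mul_pos P.hf (by omega))
  have h2 := Nat.mul_le_mul P.hf hk
  omega

theorem pp (hk : 1 ≤ k) (ht : PP p (f * k) t) : PP (Nat.card F) k t := pp_q P.hf hk P.card ht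

theorem val0 (hk : 2 ≤ k) (ht : PP p (f * k) t) :
    (Nat.card A).factorization t + (Nat.card C).factorization t = (Nat.card (Isos B)).factorization t :=
  P.val t ht.prime (P.two_ne hk ht) (not_dvd_f P.hf (by omega) ht)

theorem mem_or (hk : 2 ≤ k) (ht : PP p (f * k) t) (h : t ∣ Nat.card (Isos B)) : t ∣ Nat.card A ∨ t ∣ Nat.card C := by
  have := finite_end (F := F) (V := V)
  have h1 := P.val0 hk ht
  have h2 := ht.prime.factorization_pos_of_dvd (Nat.card_pos (α := Isos B)).ne' h
  rcases Nat.eq_zero_or_pos ((Nat.card A).factorization t) with h3 | h3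
  · right
    exact Nat.dvd_of_factorization_pos (by omega)
  · left
    exact Nat.dvd_of_factorization_pos (by omega)

theorem dvd_isos {a i : ℕ} (hi : 1 ≤ i) (him : i ≤ m) (h : t ^ a ∣ (p ^ f) ^ (2 * i) - 1) : t ^ a ∣ Nat.card (Isos B) := by
  have hq : Fintype.card F = p ^ f := by rw [← Nat.card_eq_fintype_card, P.card]
  rw [card_Isos P.alt P.nondeg P.dim, hq]
  refine Dvd.dvd.mul_left (h.trans ?_) _
  have h1 := Finset.dvd_prod_of_mem (fun i => (p ^ f) ^ (2 * (i + 1)) - 1) (Finset.mem_range.2 (by omega : i - 1 < m))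
  rw [Nat.sub_add_cancel hi] at h1
  exact h1

/-- `k` even or odd: the primitive prime divides `|Sp|` -/
theorem dvd_isos' {i : ℕ} (hk : 1 ≤ k) (hki : k ∣ 2 * i) (hi : 1 ≤ i) (him : i ≤ m) (ht : PP p (f * k) t) :
    t ∣ Nat.card (Isos B) := by
  have h1 := P.dvd_isos (t := t) (a := 1) hi him (by
    rw [pow_one]
    refine ((pp_q P.hf hk rfl ht).dvd_iff ?_ _).2 hki
    exact Nat.one_le_pow _ _ P.prime.pos)
  rwa [pow_one] at h1

theorem not_both (hm : 1 ≤ m) (hk : 2 ≤ k) (hmk : m < k) (ht : PP p (f * k) t) (hA : t ∣ Nat.card A) (hC : t ∣ Nat.card C) : False := by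
  have := finite_end (F := F) (V := V)
  have := Fact.mk ht.prime
  have hn : finrank F V < 2 * k := by rw [P.dim]; omega
  have hppq := P.pp (by omega) ht
  obtain ⟨a, haA, ha, ha1⟩ := exists_elt ht.prime hA
  obtain ⟨b, hbC, hb, hb1⟩ := exists_elt ht.prime hC
  let a' : Isos B := ⟨a, P.leA haA⟩
  let b' : Isos B := ⟨b, P.leC hbC⟩
  have ha' : orderOf a' = t := by
    rw [← Subgroup.orderOf_coe]
    exact orderOf_eq_prime ha ha1
  have hb' : orderOf b' = t := by
    rw [← Subgroup.orderOf_coe]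
    exact orderOf_eq_prime hb hb1
  have hpg : ∀ x : Isos B, orderOf x = t → IsPGroup t (Subgroup.zpowers x) := fun x hx => by
    rw [IsPGroup.iff_card]
    exact ⟨1, by rw [Nat.card_zpowers, hx, pow_one]⟩
  obtain ⟨P₁, hP₁⟩ := (hpg _ ha').exists_le_sylow
  obtain ⟨Q₁, hQ₁⟩ := (hpg _ hb').exists_le_sylow
  obtain ⟨g, hg⟩ := MulAction.exists_smul_eq (Isos B) Q₁ P₁
  have h1 : g * b' * g⁻¹ ∈ P₁ := by
    rw [← hg]
    exact Subgroup.smul_mem_pointwise_smul b' (MulAut.conj g) (Q₁ : Subgroup (Isos B)) (hQ₁ (Subgroup.mem_zpowers _))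
  have h2 : orderOf (g * b' * g⁻¹) = t := by
    rw [← hb']
    simpa only [_root_.MulEquiv.toMonoidHom_eq_coe, _root_.MonoidHom.coe_coe, _root_.MulAut.conj_apply] using orderOf_injective (MulAut.conj g).toMonoidHom (MulAut.conj g).injective b'
  have h3 : a' ∈ P₁ := hP₁ (Subgroup.mem_zpowers _)
  have hcP : IsCyclic P₁ := cyc_of hppq hk hn P₁.2 ((Isos B).subtype.comp (P₁ : Subgroup (Isos B)).subtype)
    (fun x y h => Subtype.ext (Subtype.ext h))
  have h5 : (⟨g * b' * g⁻¹, h1⟩ : P₁) ∈ Subgroup.zpowers (⟨a', h3⟩ : P₁) := by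
    refine H454.Reg.mem_zpowers_of_pow_orderOf _ _ ?_
    rw [← Subgroup.orderOf_coe]
    change (⟨g * b' * g⁻¹, h1⟩ : P₁) ^ orderOf a' = 1
    rw [ha'.trans h2.symm]
    exact Subtype.ext (by rw [SubmonoidClass.coe_pow]; exact pow_orderOf_eq_one _)
  obtain ⟨i, hi⟩ := h5
  have h6 : a' ^ i = g * b' * g⁻¹ := congrArg Subtype.val hi
  have h7 : g.1 * b * g.1⁻¹ ∈ A := by
    have h8 : (a' ^ i).1 = g.1 * b * g.1⁻¹ := by rw [h6]; rfl
    rw [← h8]
    exact A.zpow_mem haA i
  obtain ⟨c, hc⟩ := P.symm.conj b hbC g.1 g.2 h7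
  exact hb1 (P.eq_one_of_scalar hm (P.leC hbC) hc (hppq.odd hk) hb)

/-- elements of order `t ^ a` -/
theorem elt {a i : ℕ} (hk : 2 ≤ k) (hmk : m < k) (hki : k = 2 * i) (him : i ≤ m) (ht : PP p (f * k) t) (hA : t ∣ Nat.card A)
    (had : t ^ a ∣ (p ^ f) ^ k - 1) : ∃ g ∈ A, orderOf g = t ^ a := by
  have := finite_end (F := F) (V := V)
  have := Fact.mk ht.prime
  have hn : finrank F V < 2 * k := by rw [P.dim]; omega
  have hppq := P.pp (by omega) ht
  have h1 := P.val0 hk ht
  have h2 : (Nat.card C).factorization t = 0 :=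
    Nat.factorization_eq_zero_of_not_dvd fun h => P.not_both (by omega) hk hmk ht hA h
  have h3 : t ^ a ∣ Nat.card A := by
    have h4 := P.dvd_isos (t := t) (a := a) (i := i) (by omega) him (by rw [← hki]; exact had)
    rw [ht.prime.pow_dvd_iff_le_factorization (Nat.card_pos (α := A)).ne']
    have h5 := (ht.prime.pow_dvd_iff_le_factorization (Nat.card_pos (α := Isos B)).ne').1 h4
    omega
  obtain ⟨S⟩ : Nonempty (Sylow t A) := inferInstance
  have hcS : IsCyclic S := cyc_of hppq hk hn S.2 (A.subtype.comp (S : Subgroup A).subtype)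
    (fun x y h => Subtype.ext (Subtype.ext h))
  obtain ⟨s, hs⟩ := IsCyclic.exists_generator (α := S)
  have hos : orderOf s = Nat.card S := by
    rw [← Nat.card_zpowers]
    have : Subgroup.zpowers s = ⊤ := by
      rw [eq_top_iff]; intro z _; exact hs z
    rw [this, Subgroup.card_top]
  obtain ⟨c, hc⟩ : t ^ a ∣ Nat.card S := S.pow_dvd_card_of_pow_dvd_card h3
  have hpos : 0 < Nat.card S := Nat.card_pos
  have hc0 : c ≠ 0 := by rintro rfl; omega
  refine ⟨((s ^ c : S) : A), ((s ^ c : S) : A).2, ?_⟩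
  rw [Subgroup.orderOf_coe, Subgroup.orderOf_coe, orderOf_pow_of_dvd hc0 (by rw [hos, hc]; exact Dvd.intro_left _ rfl), hos, hc,
    Nat.mul_div_cancel _ (Nat.pos_of_ne_zero hc0)]

end Pair

/-- a large primitive prime power -/
structure Gd (p f k r a : ℕ) : Prop where
  pp : PP p (f * k) r
  big : 2 * k + 1 < r ^ a
  dvd : r ^ a ∣ (p ^ f) ^ k - 1

/-- a reducible group -/
def RedG (H : Subgroup (V ≃ₗ[F] V)) : Prop := ∃ W : Submodule F V, W ≠ ⊥ ∧ W ≠ ⊤ ∧ ∀ h ∈ H, ∀ w ∈ W, h w ∈ W

/-- characteristic two, `H` contains `Ω(Q)`, `Q` with polar form `B` -/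
def OmE (B : LinearMap.BilinForm F V) (H : Subgroup (V ≃ₗ[F] V)) : Prop :=
  (2 : F) = 0 ∧ ∃ Q : QuadraticForm F V, (∀ u v, polar Q u v = B u v) ∧ E Q ≤ H

theorem irr_of_not {H : Subgroup (V ≃ₗ[F] V)} (h : ¬ RedG H) (W : Submodule F V) (hW : ∀ h ∈ H, ∀ w ∈ W, h w ∈ W) :
    W = ⊥ ∨ W = ⊤ := by
  by_contra hcon
  push Not at hcon
  exact h ⟨W, hcon.1, hcon.2, hW⟩

/-- **the list lemma** -/
theorem list' (hP : H659.CovCore.S5948Stmt.{v}) (hB : ∀ x, B x x = 0) (hnd : ∀ x, (∀ y, B x y = 0) → x = 0)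
    (hp : p.Prime) (hf : 1 ≤ f) (hF : Nat.card F = p ^ f) {H : Subgroup (V ≃ₗ[F] V)} (hH : H ≤ Isos B) (hne : ¬ Isos B ≤ H)
    {r a : ℕ} (G : Gd p f k r a) (h10 : 10 ≤ finrank F V) (hk1 : k ≤ finrank F V) (hk2 : finrank F V < 2 * k)
    {g : V ≃ₗ[F] V} (hg : g ∈ H) (ho : orderOf g = r ^ a) :
    RedG H ∨ (∃ s, s.Prime ∧ s ∣ Nat.gcd (finrank F V) k ∧ AExt s H) ∨ OmE B H := by
  have hnum := num_of hp hf G.pp h10 hk1 hk2 G.big G.dvd
  have hq : Fintype.card F = p ^ f := by rw [← Nat.card_eq_fintype_card, hF]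
  exact sp_list hP hB hnd hH hne hg (k := k) (by rw [ho, hq]; exact hnum)

/-- an element of order `t`, `ord_t(q) = dim V`: irreducible -/
theorem not_red {H : Subgroup (V ≃ₗ[F] V)} (ht : PP (Nat.card F) k t) (hk : 2 ≤ k) (hkn : finrank F V = k) (h : t ∣ Nat.card H) :
    ¬ RedG H := by
  rintro ⟨W, hW0, hW1, hW⟩
  obtain ⟨x, hxH, hx, hx1⟩ := exists_elt ht.prime h
  obtain ⟨-, h2, -, h4⟩ := blk ht hk (by omega) hx hx1
  have h5 : cm (x : Module.End F V) = ⊤ := Submodule.eq_top_of_finrank_eq (by rw [h2, hkn])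
  rcases h4 W (by rw [h5]; exact le_top) (fun w hw => hW x hxH w hw) with h6 | h6
  · exact hW0 h6
  · exact hW1 (h6.trans h5)

/-- `AExt` and even `k` -/
theorem ext_even' {H : Subgroup (V ≃ₗ[F] V)} {s n : ℕ} (hA : AExt s H) (hs : s.Prime) (hn : finrank F V = 2 * n) (hn2 : 2 ≤ n)
    (hnk : n < k) (ht : PP (Nat.card F) k t) (h : t ∣ Nat.card H) : s ∣ k := by
  obtain ⟨x, hxH, hx, hx1⟩ := exists_elt ht.prime h
  refine ext_even hA hxH ht (by omega) (by omega) hx hx1 ?_
  rintro rfl
  have h1 := hA.dvd_finrank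
  rw [hn, hs.dvd_mul] at h1
  have h2 := ht.lt (by omega)
  rcases h1 with h1 | h1
  · have := Nat.le_of_dvd two_pos h1
    omega
  · have := Nat.le_of_dvd (by omega) h1
    omega

/-- `AExt` and odd `k` -/
theorem ext_odd' {H : Subgroup (V ≃ₗ[F] V)} {s n : ℕ} (hB : ∀ x, B x x = 0) (hnd : ∀ x, (∀ y, B x y = 0) → x = 0)
    (hH : H ≤ Isos B) (hA : AExt s H) (hs : s.Prime) (hn : finrank F V = 2 * n) (hn2 : 2 ≤ n)
    (hnk : n < 2 * k) (hk : 3 ≤ k) (hodd : Odd k) (ht : PP (Nat.card F) k t) (h : t ∣ Nat.card H) : s ∣ k := by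
  obtain ⟨x, hxH, hx, hx1⟩ := exists_elt ht.prime h
  refine ext_odd hB hnd hA hxH (hH hxH) ht (by omega) hodd (dim_odd hB hnd ht (by omega) hodd (by omega) (hH hxH) hx hx1) hx ?_
  rintro rfl
  have h1 := hA.dvd_finrank
  rw [hn, hs.dvd_mul] at h1
  have h2 := Nat.le_of_dvd (by have := ht.prime.two_le; omega) (ht.two_mul_dvd hk hodd)
  rcases h1 with h1 | h1
  · have := Nat.le_of_dvd two_pos h1
    omega
  · have := Nat.le_of_dvd (by omega) h1
    omega

/-- the list lemma for a factor -/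
theorem Pair.list (P : Pair B p f m A C) (hP : H659.CovCore.S5948Stmt.{v}) (hm : 5 ≤ m) {i r a : ℕ} (hki : k = 2 * i) (hmk : m < k)
    (him : i ≤ m) (G : Gd p f k r a) (hA : r ∣ Nat.card A) :
    RedG A ∨ (∃ s, s.Prime ∧ s ∣ Nat.gcd (2 * m) k ∧ AExt s A) ∨ OmE B A := by
  obtain ⟨g, hg, ho⟩ := P.elt (by omega) hmk hki him G.pp hA G.dvd
  have h1 := list' hP P.alt P.nondeg P.prime P.hf P.card P.leA P.neA G (by rw [P.dim]; omega) (by rw [P.dim]; omega)
    (by rw [P.dim]; omega) hg ho
  rwa [P.dim] at h1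

end

end Cfsg.Agent.H925.Rs
end
end

-- part: H925/Rs/Ded
section
prune_inst 0x214004405062020000000090012020044c0005900023000169000d4209086321854027000e801600180620811000406001000010421000000a00020040000020800120822134ac04160019000884000000000000000000000000000000000004000000000
set_option linter.all false
open scoped Cfsg.Agent.FastGrp

/-!
# S3691: the deduction for `PSp_2m(q)`, `m ≥ 5`, first part (helper925)

* `Pair.both` : `r_2m`, `r_(2m-2)` divide `|A|`
* `Pair.irrC` : `r_2m` divides `|A|`, `r_(2m-2)` divides `|C|`, `C` irreducible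
-/

set_option autoImplicit false
set_option linter.unusedSectionVars false

namespace Cfsg.Agent.H925.Rs

open Module QuadraticMap Cfsg Cfsg.Geo Matrix Polynomial Cfsg.Agent.LieClassical.OrthCore Cfsg.Agent.H884.El Cfsg.Agent.H449.Reg
open Cfsg.Agent.H951 (fx cm Inv Irr Frm Nd TI Isom)
open scoped MatrixGroups

universe v w

theorem odd_prime_of_dvd {s o : ℕ} (hs : s.Prime) (ho : Odd o) (h : s ∣ o) : s ≠ 2 := by
  rintro rfl
  exact (Nat.not_even_iff_odd.2 ho) (even_iff_two_dvd.2 h)

theorem eq_two_of_dvd {s a : ℕ} (hs : s.Prime) (ha : 2 ≤ a) (h1 : s ∣ a) (h2 : s ∣ a - 2) : s = 2 := by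
  have h3 := Nat.dvd_sub h1 h2
  rw [show a - (a - 2) = 2 by omega] at h3
  exact (Nat.prime_dvd_prime_iff_eq hs Nat.prime_two).1 h3

theorem eq_two_of_dvd4 {s a : ℕ} (hs : s.Prime) (ha : 4 ≤ a) (h1 : s ∣ a) (h2 : s ∣ a - 4) : s = 2 := by
  have h3 := Nat.dvd_sub h1 h2
  rw [show a - (a - 4) = 2 ^ 2 by omega] at h3
  exact (Nat.prime_dvd_prime_iff_eq hs Nat.prime_two).1 (hs.dvd_of_dvd_pow h3)

section

variable {F : Type v} [Field F] [Fintype F] {V : Type w} [AddCommGroup V] [Module F V] [FiniteDimensional F V]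
  {B : LinearMap.BilinForm F V} {p f m k t : ℕ} {A C : Subgroup (V ≃ₗ[F] V)}

namespace Pair

variable (P : Pair B p f m A C)
include P

/-- two parities in the factor `A` -/
theorem par' (hA : AExt 2 A) (hred : ¬ RedG A) {i j a b : ℕ} (hi : m < 2 * i) (hj : m < 2 * j) (hij : Odd (i + j)) (hi1 : 1 ≤ i) (hj1 : 1 ≤ j)
    (ha : PP p (f * (2 * i)) a) (hb : PP p (f * (2 * j)) b) (haA : a ∣ Nat.card A) (hbA : b ∣ Nat.card A) : False := by
  refine par P.alt P.nondeg P.leA (irr_of_not hred) (P.pp (by omega) ha) (P.pp (by omega) hb) (even_two_mul i) (even_two_mul j)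
    (by rw [P.dim]; omega) (by rw [P.dim]; omega) (by omega) (by omega) ?_ haA hbA hA
  rw [Nat.mul_div_cancel_left _ two_pos, Nat.mul_div_cancel_left _ two_pos]
  exact hij

/-- **both in the same factor** -/
theorem both (hP : H659.CovCore.S5948Stmt.{v}) (hm : 5 ≤ m) {t0 t1 : ℕ} (h0 : PP p (f * (2 * m)) t0) (h0A : t0 ∣ Nat.card A)
    (h1 : PP p (f * (2 * (m - 1))) t1) (h1A : t1 ∣ Nat.card A) {i r a : ℕ} (hmk : m < 2 * i) (him : i ≤ m)
    (G : Gd p f (2 * i) r a) (hA : r ∣ Nat.card A) : OmE B A := by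
  have hred : ¬ RedG A := not_red (P.pp (by omega) h0) (by omega) P.dim h0A
  rcases P.list hP hm rfl hmk him G hA with h | ⟨s, hs, hsd, hAs⟩ | h
  · exact absurd h hred
  · exfalso
    have e1 := hsd.trans (Nat.gcd_dvd_left _ _)
    have e2 := ext_even' hAs hs P.dim (by omega) (by omega) (P.pp (by omega) h1) h1A
    have e3 : s = 2 := eq_two_of_dvd hs (by omega) e1 (by rwa [show 2 * m - 2 = 2 * (m - 1) by omega])
    subst e3
    exact P.par' hAs hred (i := m) (j := m - 1) (by omega) (by (clear * - hm; omega)) ⟨m - 1, by (clear * - hm; omega)⟩ (by omega) (by (clear * - hm; omega)) h0 h1 h0A h1A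
  · exact h

/-- **`C` irreducible** -/
theorem irrC (hP : H659.CovCore.S5948Stmt.{v}) (hm : 5 ≤ m) (hred : ¬ RedG C) {t1 t3 t4 o : ℕ}
    (h1 : PP p (f * (2 * (m - 1))) t1) (h1C : t1 ∣ Nat.card C) (h3 : PP p (f * (2 * (m - 2))) t3)
    (hoo : Odd o) (hom : o ≤ m) (hmo : m ≤ o + 1) (hto : PP p (f * o) t4)
    {i r a : ℕ} (hmk : m < 2 * i) (him : i ≤ m) (G : Gd p f (2 * i) r a) (hC : r ∣ Nat.card C)
    (hA : (∃ s, s.Prime ∧ AExt s A) ∨ t3 ∣ Nat.card C) : OmE B C := by
  rcases P.symm.list hP hm rfl hmk him G hC with h | ⟨s, hs, hsd, hAs⟩ | h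
  · exact absurd h hred
  · exfalso
    have e1 := hsd.trans (Nat.gcd_dvd_left _ _)
    have e2 := ext_even' hAs hs P.dim (by omega) (by omega) (P.pp (by omega) h1) h1C
    have e3 : s = 2 := eq_two_of_dvd hs (by omega) e1 (by rwa [show 2 * m - 2 = 2 * (m - 1) by omega])
    subst e3
    have hkill : ¬ t3 ∣ Nat.card C := fun h3C =>
      P.symm.par' hAs hred (i := m - 1) (j := m - 2) (by (clear * - hm; omega)) (by omega) ⟨m - 2, by (clear * - hm; omega)⟩ (by omega) (by omega) h1 h3 h1C h3C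
    rcases hA with ⟨u, hu, hAu⟩ | h3C
    · have h3A : t3 ∣ Nat.card A :=
        (P.mem_or (by omega) h3 (P.dvd_isos' (by omega) dvd_rfl (i := m - 2) (by omega) (by omega) h3)).resolve_right hkill
      have hoC : ¬ t4 ∣ Nat.card C := fun h => by
        have := ext_odd' P.alt P.nondeg P.leC hAs hs P.dim (by omega) (by omega) (by omega) hoo (P.pp (by omega) hto) h
        exact odd_prime_of_dvd hs hoo this rfl
      have hoA : t4 ∣ Nat.card A :=
        (P.mem_or (by omega) hto (P.dvd_isos' (by omega) ⟨2, by ring⟩ (i := o) (by omega) (by omega) hto)).resolve_right hoC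
      have e4 := ext_odd' P.alt P.nondeg P.leA hAu hu P.dim (by omega) (by omega) (by omega) hoo (P.pp (by omega) hto) hoA
      have e5 := odd_prime_of_dvd hu hoo e4
      have e6 := hAu.dvd_finrank
      rw [P.dim] at e6
      have e7 := ext_even' hAu hu P.dim (by omega) (by (clear * - hm; omega)) (P.pp (by omega) h3) h3A
      apply e5
      exact eq_two_of_dvd4 hu (by omega) e6 (by rwa [show 2 * m - 4 = 2 * (m - 2) by (clear * -; omega)])
    · exact hkill h3C
  · exact h

end Pair

/-- primes dividing the order of the isometry group -/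
theorem exists_of_dvd (hB : ∀ x, B x x = 0) (hnd : ∀ x, (∀ y, B x y = 0) → x = 0) {n : ℕ} (hn : finrank F V = 2 * n)
    (hk : 1 ≤ k) (ht : PP (Nat.card F) k t) (h : t ∣ Nat.card (Isos B)) : ∃ i, 1 ≤ i ∧ i ≤ n ∧ k ∣ 2 * i := by
  have hq := one_lt_q F
  rw [card_Isos hB hnd hn, ← Nat.card_eq_fintype_card, ht.prime.dvd_mul] at h
  rcases h with h | h
  · exact absurd (ht.prime.dvd_of_dvd_pow h) (ht.not_dvd hk)
  · obtain ⟨i, hi, h1⟩ := (ht.prime.prime.dvd_finsetProd_iff _).1 h
    exact ⟨i + 1, by omega, by have := Finset.mem_range.1 hi; omega, (ht.dvd_iff hq.le _).1 h1⟩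

theorem fac_pos {N : ℕ} (hN : N ≠ 0) (ht : t.Prime) : t ∣ N ↔ 0 < N.factorization t :=
  ⟨fun h => ht.factorization_pos_of_dvd hN h, fun h => Nat.dvd_of_factorization_pos h.ne'⟩

/-- the `t`-part, `t` of odd order `n`, `dim V = 2 n` -/
theorem fac_isos_odd (hB : ∀ x, B x x = 0) (hnd : ∀ x, (∀ y, B x y = 0) → x = 0) {n : ℕ} (hn : finrank F V = 2 * n)
    (hn3 : 3 ≤ n) (hodd : Odd n) (ht : PP (Nat.card F) n t) :
    (Nat.card (Isos B)).factorization t = (Nat.card F ^ n - 1).factorization t := by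
  have hq := one_lt_q F
  have hq0 : ∀ i, Nat.card F ^ (2 * (i + 1)) - 1 ≠ 0 := fun i => by
    have : 1 < Nat.card F ^ (2 * (i + 1)) := Nat.one_lt_pow (by omega) hq
    omega
  obtain ⟨j, rfl⟩ : ∃ j, n = j + 1 := ⟨n - 1, by omega⟩
  rw [card_Isos hB hnd hn, ← Nat.card_eq_fintype_card, Finset.prod_range_succ,
    Nat.factorization_mul (pow_ne_zero _ (by omega)) (mul_ne_zero (Finset.prod_ne_zero_iff.2 fun i _ => hq0 i) (hq0 j)),
    Nat.factorization_mul (Finset.prod_ne_zero_iff.2 fun i _ => hq0 i) (hq0 j), Finsupp.add_apply, Finsupp.add_apply,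
    Nat.factorization_eq_zero_of_not_dvd (fun h => ht.not_dvd (by omega) (ht.prime.dvd_of_dvd_pow h)),
    Nat.factorization_eq_zero_of_not_dvd (n := ∏ i ∈ Finset.range j, (Nat.card F ^ (2 * (i + 1)) - 1)), zero_add, zero_add]
  · have h1 : Nat.card F ^ (2 * (j + 1)) - 1 = (Nat.card F ^ (j + 1) + 1) * (Nat.card F ^ (j + 1) - 1) := by
      have := Nat.sq_sub_sq (Nat.card F ^ (j + 1)) 1
      rw [one_pow, ← pow_mul, mul_comm (j + 1) 2] at this
      exact this
    have h2 : 1 < Nat.card F ^ (j + 1) := Nat.one_lt_pow (by omega) hq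
    rw [h1, Nat.factorization_mul (by omega) (by omega), Finsupp.add_apply, Nat.factorization_eq_zero_of_not_dvd, zero_add]
    intro h3
    have h4 : t ∣ Nat.card F ^ (j + 1) - 1 := (ht.dvd_iff hq.le _).2 dvd_rfl
    have h5 := Nat.dvd_sub h3 h4
    rw [show Nat.card F ^ (j + 1) + 1 - (Nat.card F ^ (j + 1) - 1) = 2 by omega] at h5
    have h6 := (Nat.prime_dvd_prime_iff_eq ht.prime Nat.prime_two).1 h5
    have := ht.lt (by omega)
    omega
  · intro h
    obtain ⟨i, hi, h1⟩ := (ht.prime.prime.dvd_finsetProd_iff _).1 h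
    have h2 := Finset.mem_range.1 hi
    have h3 := (ht.dvd_iff hq.le _).1 h1
    have h4 : j + 1 ∣ i + 1 := (Nat.Coprime.dvd_of_dvd_mul_left (Nat.coprime_two_right.2 hodd) h3)
    have := Nat.le_of_dvd (by omega) h4
    omega

/-- **`C` reducible** -/
theorem Pair.redC (P : Pair B p f m A C) (hm : 5 ≤ m) {t0 t1 t3 t4 t5 o : ℕ}
    (h0 : PP p (f * (2 * m)) t0) (h0A : t0 ∣ Nat.card A)
    (h1 : PP p (f * (2 * (m - 1))) t1) (h1C : t1 ∣ Nat.card C) (h3 : PP p (f * (2 * (m - 2))) t3)
    (h5 : 7 ≤ m → PP p (f * (2 * (m - 3))) t5)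
    (hoo : Odd o) (hom : o ≤ m) (hmo : m ≤ o + 1) (hto : PP p (f * o) t4)
    (hsix : m = 6 → AExt 2 A → (∀ c ∈ C, ∀ t, PP (Nat.card F) 3 t → c ^ t = 1 → c = 1) → False)
    {U : Submodule F V} {Hb : Subgroup (U ≃ₗ[F] U)} (hU : finrank F U = 2 * (m - 1))
    (hUn : ∀ x ∈ U, (∀ y ∈ U, B x y = 0) → x = 0) (hle : Hb ≤ Isos (B.restrict U))
    (hval : ∀ t k, 3 ≤ k → PP (Nat.card F) k t → (Nat.card C).factorization t = (Nat.card Hb).factorization t)
    (hlist : (∃ s, s.Prime ∧ AExt s Hb) ∨ OmE (B.restrict U) Hb)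
    (homv : OmE (B.restrict U) Hb → ∀ t, t.Prime → t ≠ 2 → (Nat.card Hb).factorization t + (Nat.card F ^ (m - 1) - 1).factorization t ≤
      (Nat.card (Isos (B.restrict U))).factorization t)
    (hA : (∃ s, s.Prime ∧ AExt s A) ∨ (t3 ∣ Nat.card C ∧ (OmE (B.restrict U) Hb → Even m ∧ t4 ∣ Nat.card C)))
    (hd : OmE (B.restrict U) Hb → Odd m → ∀ u, u.Prime → u ≠ 2 → u ∣ m → ∃ t d, PP p (f * d) t ∧ d ∣ m - 1 ∧ 3 ≤ d ∧ t ≠ u ∧ 2 * m < d * u) :
    False := by
  have hfe := finite_end (F := F) (V := V)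
  have hfeU := finite_end (F := F) (V := U)
  have hredA : ¬ RedG A := not_red (P.pp (by omega) h0) (by omega) P.dim h0A
  have hBU : ∀ x, B.restrict U x x = 0 := fun x => P.alt x.1
  have hndU : ∀ x, (∀ y, B.restrict U x y = 0) → x = 0 := fun x hx => Subtype.ext (hUn x.1 x.2 fun y hy => hx ⟨y, hy⟩)
  have hmem : ∀ {t k : ℕ}, 3 ≤ k → PP (Nat.card F) k t → t ∣ Nat.card C → t ∣ Nat.card Hb := by
    intro t k hk ht h
    rw [fac_pos (Nat.card_pos (α := Hb)).ne' ht.prime, ← hval t k hk ht]
    exact (fac_pos (Nat.card_pos (α := C)).ne' ht.prime).1 h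
  have h1q := P.pp (by omega) h1
  have h3q := P.pp (by omega) h3
  have hoq := P.pp (by omega) hto
  have hredH : ¬ RedG Hb := not_red h1q (by omega) hU (hmem (by omega) h1q h1C)
  have hq := one_lt_q F
  -- the odd prime lies in `C` only for `o = m - 1`
  have hoC : t4 ∣ Nat.card C → o = m - 1 := by
    intro h
    have h6 := (hmem (by omega) hoq h).trans (Subgroup.card_dvd_of_le hle)
    obtain ⟨i, hi1, hi2, hi3⟩ := exists_of_dvd hBU hndU hU (by omega) hoq h6
    have h7 : o ∣ i := (Nat.Coprime.dvd_of_dvd_mul_left (Nat.coprime_two_right.2 hoo) hi3)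
    have := Nat.le_of_dvd (by omega) h7
    omega
  have hom' : t4 ∣ Nat.card A ∨ t4 ∣ Nat.card C :=
    P.mem_or (by omega) hto (P.dvd_isos' (by omega) ⟨2, by ring⟩ (i := o) (by omega) (by omega) hto)
  by_cases hOm : OmE (B.restrict U) Hb
  · -- part ii
    have hcase : (Even m ∧ t4 ∣ Nat.card C) ∨ (Odd m ∧ ∃ u, u.Prime ∧ AExt u A) := by
      rcases hA with ⟨u, hu, hAu⟩ | ⟨-, h⟩
      · rcases Nat.even_or_odd m with hev | hod
        · left
          refine ⟨hev, hom'.resolve_left fun h => ?_⟩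
          have e4 := ext_odd' P.alt P.nondeg P.leA hAu hu P.dim (by omega) (by omega) (by omega) hoo hoq h
          have e5 := odd_prime_of_dvd hu hoo e4
          have e6 := hAu.dvd_finrank
          rw [P.dim] at e6
          have e7 : o = m - 1 := by
            rcases Nat.lt_or_ge o m with h8 | h8
            · (clear * - hmo h8; omega)
            · exfalso
              have : o = m := by omega
              rw [this] at hoo
              exact (Nat.not_even_iff_odd.2 hoo) hev
          apply e5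
          refine eq_two_of_dvd hu (by omega) e6 ?_
          rw [show 2 * m - 2 = o * 2 by omega]
          exact e4.mul_right 2
        · exact Or.inr ⟨hod, u, hu, hAu⟩
      · exact Or.inl (h hOm)
    rcases hcase with ⟨hev, h4C⟩ | ⟨hod, u, hu, hAu⟩
    · have e1 := hoC h4C
      subst e1
      have e2 := homv hOm t4 hto.prime (P.two_ne (by omega) hto)
      rw [fac_isos_odd hBU hndU hU (by omega) hoo hoq] at e2
      have e3 := (fac_pos (Nat.card_pos (α := Hb)).ne' hto.prime).1 (hmem (by omega) hoq h4C)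
      omega
    · have e0 : o = m := by
        by_contra hne
        have : m = o + 1 := by omega
        rw [this] at hod
        obtain ⟨a, ha⟩ := hoo
        obtain ⟨b, hb⟩ := hod
        omega
      have h4A : t4 ∣ Nat.card A := hom'.resolve_right fun h => by have := hoC h; omega
      have e4 := ext_odd' P.alt P.nondeg P.leA hAu hu P.dim (by omega) (by omega) (by omega) hoo hoq h4A
      have e5 := odd_prime_of_dvd hu hoo e4
      rw [e0] at e4
      obtain ⟨t, d, ht, hdm, hd3, htu, hdu⟩ := hd hOm hod u hu e5 e4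
      have htq := P.pp (by omega) ht
      have e6 := homv hOm t ht.prime (P.two_ne (by omega) ht)
      have e7 : 0 < (Nat.card F ^ (m - 1) - 1).factorization t := by
        have h8 : 1 < Nat.card F ^ (m - 1) := Nat.one_lt_pow (by (clear * - hm; omega)) hq
        refine (fac_pos (by omega) ht.prime).1 ?_
        exact (htq.dvd_iff hq.le _).2 hdm
      have e8 : (Nat.card (Isos (B.restrict U))).factorization t ≤ (Nat.card (Isos B)).factorization t := by
        refine (Nat.factorization_le_iff_dvd (Nat.card_pos (α := Isos (B.restrict U))).ne' (Nat.card_pos (α := Isos B)).ne').2 ?_ t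
        rw [card_Isos hBU hndU hU, card_Isos P.alt P.nondeg P.dim]
        refine Nat.mul_dvd_mul (pow_dvd_pow _ (Nat.pow_le_pow_left (by (clear * -; omega)) 2)) ?_
        exact Finset.prod_dvd_prod_of_subset _ _ _ (Finset.range_mono (by (clear * -; omega)))
      have e9 := P.val0 (by omega) ht
      rw [hval t d hd3 htq] at e9
      have hA' : t ∣ Nat.card A := (fac_pos (Nat.card_pos (α := A)).ne' ht.prime).2 (by omega)
      obtain ⟨z, hzA, hz, hz1⟩ := exists_elt ht.prime hA'
      have e10 := hAu.dvd_fx hzA ht.prime hz htu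
      have e11 := add_fx_cm htq (by omega) hz
      have e12 := hAu.dvd_finrank
      rw [← e11] at e12
      have e13 := (Nat.dvd_add_right e10).1 e12
      obtain ⟨j, hj⟩ := dvd_cm htq (by omega) hz
      rw [hj] at e13
      have e14 : ¬ u ∣ d := by
        intro h
        have h8 := h.trans hdm
        have h9 := Nat.dvd_sub e4 h8
        rw [show m - (m - 1) = 1 by (clear * - hm; omega)] at h9
        exact hu.one_lt.ne' (Nat.dvd_one.1 h9)
      have e15 := (hu.dvd_mul.1 e13).resolve_left e14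
      have e16 : j ≠ 0 := by
        rintro rfl
        rw [mul_zero] at hj
        exact cm_ne_bot (coe_ne_one hz1) (Submodule.finrank_eq_zero.1 hj)
      have e17 := Nat.le_of_dvd (by omega) e15
      have e18 : finrank F (cm (z : Module.End F V)) ≤ 2 * m := by rw [← P.dim]; exact Submodule.finrank_le _
      have e19 := Nat.mul_le_mul_left d e17
      omega
  · -- part i
    obtain ⟨s, hs, hAs⟩ := hlist.resolve_right hOm
    have f1 := hAs.dvd_finrank
    rw [hU] at f1
    have f2 : ¬ t3 ∣ Nat.card C := by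
      intro h
      have h6 := hmem (by omega) h3q h
      have h7 := ext_even' hAs hs hU (by omega) (by omega) h3q h6
      have h8 : s = 2 := eq_two_of_dvd hs (by omega) f1 (by rwa [show 2 * (m - 1) - 2 = 2 * (m - 2) by (clear * -; omega)])
      subst h8
      refine par hBU hndU hle (irr_of_not hredH) h1q h3q (even_two_mul _) (even_two_mul _) (by rw [hU]; (clear * - hm; omega))
        (by rw [hU]; (clear * - hm; omega)) (by (clear * - hm; omega)) (by omega) ?_ (hmem (by (clear * - hm; omega)) h1q h1C) h6 hAs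
      rw [Nat.mul_div_cancel_left _ two_pos, Nat.mul_div_cancel_left _ two_pos]
      exact ⟨m - 2, by (clear * - hm; omega)⟩
    have h3A : t3 ∣ Nat.card A :=
      (P.mem_or (by omega) h3 (P.dvd_isos' (by omega) dvd_rfl (i := m - 2) (by omega) (by omega) h3)).resolve_right f2
    obtain ⟨u, hu, hAu⟩ : ∃ s, s.Prime ∧ AExt s A := hA.resolve_right fun h => f2 h.1
    have g1 := hAu.dvd_finrank
    rw [P.dim] at g1
    have g2 := ext_even' hAu hu P.dim (by omega) (by omega) h3q h3A
    have g3 : u = 2 := eq_two_of_dvd4 hu (by omega) g1 (by rwa [show 2 * m - 4 = 2 * (m - 2) by omega])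
    subst g3
    have h4A : ¬ t4 ∣ Nat.card A := fun h =>
      odd_prime_of_dvd hu hoo (ext_odd' P.alt P.nondeg P.leA hAu hu P.dim (by omega) (by omega) (by omega) hoo hoq h) rfl
    have h4C := hom'.resolve_left h4A
    have e0 := hoC h4C
    have f3 : s ∣ o := ext_odd' hBU hndU hle hAs hs hU (by omega) (by omega) (by omega) hoo hoq (hmem (by omega) hoq h4C)
    have f4 := odd_prime_of_dvd hs hoo f3
    rcases Nat.lt_or_ge m 7 with h7 | h7
    · -- `m = 6` (`m = 5` : `o = 4` is not odd)
      have h6 : m = 6 := by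
        by_contra h6
        have : o = 4 := by (clear * - hm e0 h7 h6; omega)
        rw [this] at hoo
        exact absurd hoo (by decide)
      refine hsix h6 hAu fun c hcC t ht hct => ?_
      by_contra hc1
      have g4 := hmem le_rfl ht (dvd_card_of ht.prime hcC hct hc1)
      obtain ⟨x, hxH, hx, hx1⟩ := exists_elt ht.prime g4
      have g5 := dim_odd hBU hndU ht (by omega) (by decide) (by rw [hU, h6]; omega) (hle hxH) hx hx1
      have g6 := add_fx_cm ht (by omega) hx
      have hts : t ≠ s := by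
        rintro rfl
        have g7 := Nat.le_of_dvd (by have := ht.prime.two_le; omega) (ht.two_mul_dvd le_rfl (by decide))
        rw [hs.dvd_mul] at f1
        rcases f1 with g8 | g8
        · have := Nat.le_of_dvd two_pos g8
          omega
        · rw [h6] at g8
          have := Nat.le_of_dvd (by omega) g8
          omega
      have g9 := hAs.dvd_fx hxH ht.prime hx hts
      have g10 : finrank F (fx (x : Module.End F U)) = 4 := by rw [hU, h6] at g6; omega
      rw [g10] at g9
      apply f4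
      exact (Nat.prime_dvd_prime_iff_eq hs Nat.prime_two).1 (hs.dvd_of_dvd_pow (show s ∣ 2 ^ 2 from g9))
    · have h5' := h5 h7
      have h5q := P.pp (by omega) h5'
      rcases P.mem_or (by omega) h5' (P.dvd_isos' (by omega) dvd_rfl (i := m - 3) (by omega) (by omega) h5') with h | h
      · exact P.par' hAu hredA (i := m) (j := m - 3) (by omega) (by omega) ⟨m - 2, by (clear * - h7; omega)⟩ (by omega) (by omega) h0 h5' h0A h
      · have g4 := ext_even' hAs hs hU (by omega) (by omega) h5q (hmem (by omega) h5q h)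
        apply f4
        refine eq_two_of_dvd4 hs (by omega) f1 ?_
        rwa [show 2 * (m - 1) - 4 = 2 * (m - 3) by (clear * -; omega)]

end

end Cfsg.Agent.H925.Rs
end
end
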